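import Mathlib
import Cfsg.Agent.Lib.FourOrbit.Basic
import Cfsg.Agent.Lib.CIT.Basic
import Cfsg.Agent.Lib.OneComposite.Basic

/-!
Groups in which even orders are `2` or `2r` and `r` only divides the orders `r` and `2r`.
-/

set_option autoImplicit false
set_option linter.style.haveILetI false

namespace CfsgLib.TwoQList

open CfsgLib.OneComposite (two_r_parts)

/-- An even order is `2` or `2r`, an order divisible by `r` is `r` or `2r`, and `2r` occurs. -/
structure Hyp (G : Type*) [Group G] (r : ℕ) : Prop where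
  prime : r.Prime
  ne_two : r ≠ 2
  even : ∀ x : G, 2 ∣ orderOf x → orderOf x = 2 ∨ orderOf x = 2 * r
  rpart : ∀ x : G, r ∣ orderOf x → orderOf x = r ∨ orderOf x = 2 * r
  ex : ∃ x : G, orderOf x = 2 * r

variable {G : Type*} [Group G] [Finite G] {r : ℕ}

theorem Hyp.rodd (h : Hyp G r) : Odd r := h.prime.odd_of_ne_two h.ne_two

theorem Hyp.r_of_odd (h : Hyp G r) {x : G} (ho : Odd (orderOf x)) (hd : r ∣ orderOf x) :
    orderOf x = r :=
  (h.rpart x hd).resolve_right fun e => Nat.not_even_iff_odd.mpr ho (e ▸ even_two_mul r)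

theorem Hyp.order_of_pow (h : Hyp G r) {x : G} {k : ℕ} (hx : x ≠ 1) (hd : x ^ r ^ k = 1) :
    orderOf x = r := by
  obtain ⟨j, -, hj⟩ := (Nat.dvd_prime_pow h.prime).mp (orderOf_dvd_of_pow_eq_one hd)
  refine h.r_of_odd (hj ▸ h.rodd.pow) (hj ▸ dvd_pow_self r fun e => hx ?_)
  rw [← orderOf_eq_one_iff, hj, e, pow_zero]

theorem Hyp.pow_eq_one_of_pgroup (h : Hyp G r) {P : Subgroup G} (hP : IsPGroup r P) {x : G}
    (hx : x ∈ P) : x ^ r = 1 := by
  by_cases hx1 : x = 1
  · simp [hx1]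
  obtain ⟨k, hk⟩ := hP ⟨x, hx⟩
  exact orderOf_dvd_iff_pow_eq_one.mp (h.order_of_pow hx1 (congrArg Subtype.val hk)).dvd

theorem Hyp.mul_self_of_two (h : Hyp G r) {P : Subgroup G} (hP : IsPGroup 2 P) {x : G}
    (hx : x ∈ P) : x * x = 1 := by
  obtain ⟨k, hk⟩ := hP ⟨x, hx⟩
  obtain ⟨j, -, hj⟩ := (Nat.dvd_prime_pow Nat.prime_two).mp
    (orderOf_dvd_of_pow_eq_one (congrArg Subtype.val hk : x ^ 2 ^ k = 1))
  rw [← sq, ← orderOf_dvd_iff_pow_eq_one]
  rcases Nat.eq_zero_or_pos j with rfl | hj0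
  · rw [hj, pow_zero]
    exact one_dvd 2
  rcases h.even x (hj ▸ dvd_pow_self 2 hj0.ne') with e | e
  · exact e.dvd
  · exact absurd ((Nat.prime_dvd_prime_iff_eq h.prime Nat.prime_two).mp
      (h.prime.dvd_of_dvd_pow (hj ▸ e ▸ dvd_mul_left r 2))) h.ne_two

/-- An element of odd order commuting with an involution is trivial or of order `r`. -/
theorem Hyp.odd_cent (h : Hyp G r) {t g : G} (ht : orderOf t = 2) (hc : Commute g t)
    (ho : Odd (orderOf g)) (hg : g ≠ 1) : orderOf g = r := by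
  have e := hc.orderOf_mul_eq_mul_orderOf_of_coprime (ht ▸ Nat.coprime_two_right.mpr ho)
  rw [ht] at e
  rcases h.even _ (e ▸ dvd_mul_left 2 _) with e' | e' <;> rw [e] at e'
  · exact absurd (orderOf_eq_one_iff.mp (by omega)) hg
  · omega

/-- The orders in an involution centraliser. -/
theorem Hyp.orders_of_cent (h : Hyp G r) {t g : G} (ht : orderOf t = 2) (hc : Commute g t)
    (hg : g ≠ 1) : (orderOf g).Prime ∨ orderOf g = 2 * r := by
  rcases Nat.even_or_odd (orderOf g) with he | ho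
  · exact (h.even g (even_iff_two_dvd.mp he)).imp_left fun e =>
      show (orderOf g).Prime by rw [e]; exact Nat.prime_two
  · exact Or.inl (h.odd_cent ht hc ho hg ▸ h.prime)

/-- The primes of the centraliser of an element of order `2` or `r`. -/
theorem Hyp.cent_primes (h : Hyp G r) {x : G} (hx : orderOf x = 2 ∨ orderOf x = r) {s : ℕ}
    (hs : s.Prime) (hd : s ∣ Nat.card (Subgroup.centralizer ({x} : Set G))) : s = 2 ∨ s = r := by
  haveI := Fact.mk hs
  obtain ⟨⟨y, hy⟩, ho⟩ := exists_prime_orderOf_dvd_card' s hd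
  rw [Subgroup.orderOf_mk] at ho
  have hc : Commute y x := Subgroup.mem_centralizer_singleton_iff.mp hy
  by_contra hcon
  push Not at hcon
  have hy1 : y ≠ 1 := fun e => hs.ne_one (by rw [← ho, e, orderOf_one])
  rcases hx with hx | hx
  · exact hcon.2 (ho.symm.trans (h.odd_cent hx hc (ho ▸ hs.odd_of_ne_two hcon.1) hy1))
  · have e := hc.orderOf_mul_eq_mul_orderOf_of_coprime
      (ho ▸ hx ▸ (Nat.coprime_primes hs h.prime).mpr hcon.2)
    rw [ho, hx] at e
    rcases h.rpart _ (e ▸ dvd_mul_left r s) with e' | e' <;> rw [e] at e'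
    · exact hs.ne_one ((Nat.mul_eq_right h.prime.ne_zero).mp e')
    · exact hcon.1 (Nat.eq_of_mul_eq_mul_right h.prime.pos e')

theorem Hyp.cent_solvable (h : Hyp G r) {x : G} (hx : orderOf x = 2 ∨ orderOf x = r) :
    Group.IsSolvable (Subgroup.centralizer ({x} : Set G)) :=
  FourOrbit.isSolvable_of_two_primes Nat.prime_two h.prime (Ne.symm h.ne_two)
    fun _ hs hd => h.cent_primes hx hs hd

/-- An odd subgroup of such a centraliser is an `r`-group. -/
theorem Hyp.pgroup_of_odd (h : Hyp G r) {x : G} (hx : orderOf x = 2 ∨ orderOf x = r)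
    {X : Subgroup G} (hX : Odd (Nat.card X)) (hle : X ≤ Subgroup.centralizer ({x} : Set G)) :
    IsPGroup r X := by
  haveI := Fact.mk h.prime
  refine IsPGroup.iff_card.mpr ⟨_, Nat.eq_prime_pow_of_unique_prime_dvd Nat.card_pos.ne'
    fun {q} hq hd => (h.cent_primes hx hq (hd.trans (Subgroup.card_dvd_of_le hle))).resolve_left
      fun e => ?_⟩
  subst e
  exact Nat.not_even_iff_odd.mpr hX (even_iff_two_dvd.mpr hd)

end CfsgLib.TwoQList
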