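import Mathlib
import Cfsg.Agent.Lib.TwoQList.Signalizer
import Cfsg.Agent.Lib.OneComposite.AbAction
import Cfsg.Agent.Lib.ThreeOrders.Norm
import Cfsg.Agent.Lib.CIT.PSLCond
import Cfsg.Agent.Lib.PSolvable.Omega

/-!
The signalizer functor is constant: `A` centralises `W = O(C(A))`, and all centralisers of
involutions of `A` lie in the normaliser of `A`.
-/

set_option autoImplicit false
set_option linter.style.haveILetI false
set_option linter.unusedSectionVars false

namespace CfsgLib.TwoQList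

open CfsgLib.OneComposite (coreIn coreIn_le coreIn_odd conj_mem_coreIn le_coreIn le_normalizer_coreIn
  normal_sup_coreIn normalizer_le_normalizer_coreIn two_r_parts actV actV_of mul_pow_abel norm_eq)

open Finset

variable {G : Type*} [Group G] [Finite G] {r : ℕ} {A : Subgroup G}

theorem Hyp.mul_pow_eq_one (h : Hyp G r) {W : Subgroup G} (hW : IsPGroup r W)
    (y : Subgroup.normalizer (W : Set G)) {s : ℕ} (hs : s.Prime) (hs2 : s ≠ 2)
    (hy : orderOf (y : G) = s) {w : G} (hw : w ∈ W) : (w * y) ^ s = 1 := by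
  haveI := Fact.mk h.prime
  obtain ⟨hm, -⟩ := mul_pow_abel y ⟨w, hw⟩ s
  have hys : (y : G) ^ s = 1 := hy ▸ pow_orderOf_eq_one _
  rw [hys, inv_one, mul_one] at hm
  change (w * (y : G)) ^ s ∈ W at hm
  obtain ⟨k, hk⟩ := hW ⟨_, hm⟩
  have hz : (w * (y : G)) ^ (s * r ^ k) = 1 := by rw [pow_mul]; exact congrArg Subtype.val hk
  set z := w * (y : G) with hzdef
  by_contra hzs
  have hodd : Odd (orderOf z) :=
    ((hs.odd_of_ne_two hs2).mul h.rodd.pow).of_dvd_nat (orderOf_dvd_of_pow_eq_one hz)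
  have hqr : orderOf z = r := by
    refine h.r_of_odd hodd ?_
    have e := h.order_of_pow hzs (congrArg Subtype.val hk : (z ^ s) ^ r ^ k = 1)
    exact e ▸ orderOf_dvd_of_pow_eq_one (by rw [← pow_mul, mul_comm, pow_mul, pow_orderOf_eq_one, one_pow])
  by_cases hsr : s = r
  · exact hzs (by rw [hsr, ← hqr, pow_orderOf_eq_one])
  obtain ⟨hm', -⟩ := mul_pow_abel y ⟨w, hw⟩ r
  change z ^ r * ((y : G) ^ r)⁻¹ ∈ W at hm'
  rw [← hqr, pow_orderOf_eq_one, one_mul, inv_mem_iff, hqr] at hm'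
  obtain ⟨j, hj⟩ := hW ⟨_, hm'⟩
  have h2 : (y : G) ^ (r * r ^ j) = 1 := by rw [pow_mul]; exact congrArg Subtype.val hj
  have h3 : s ∣ r ^ (j + 1) := by
    rw [pow_succ']; exact hy ▸ orderOf_dvd_of_pow_eq_one h2
  exact hsr ((Nat.prime_dvd_prime_iff_eq hs h.prime).mp (hs.dvd_of_dvd_pow h3))

namespace Pre

variable (S : Pre G r A)
include S

/-- An element of odd order acting with order `m > 1` on `A` has order `m`. -/
theorem order_of_action {g : G} (ho : Odd (orderOf g)) {m : ℕ}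
    (hm1 : 1 < m) (hm : ∀ j, g ^ j ∈ Subgroup.centralizer (A : Set G) ↔ m ∣ j) : orderOf g = m := by
  have hd : m ∣ orderOf g := (hm _).mp (by rw [pow_orderOf_eq_one]; exact one_mem _)
  refine Nat.dvd_antisymm (orderOf_dvd_of_pow_eq_one (by_contra fun hne => ?_)) hd
  obtain ⟨a, ha, h1⟩ := S.exists_ne
  have hmem := (hm m).mpr dvd_rfl
  have hr := S.hyp.odd_cent (S.orderOf_invol ha h1) (show Commute (g ^ m) a from (hmem a ha).symm)
    (ho.of_dvd_nat (orderOf_pow_dvd _)) hne
  have hgr : orderOf g = r := S.hyp.r_of_odd ho (hr ▸ orderOf_pow_dvd _)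
  rw [hgr] at hd
  refine hne ?_
  rw [((Nat.dvd_prime S.hyp.prime).mp hd).resolve_left (by omega), ← hgr, pow_orderOf_eq_one]

/-- An element of prime order fixing no involution of `A`. -/
theorem exists_fpf {W : Subgroup G}
    (htrans : ∀ a ∈ A, a ≠ 1 → ∀ b ∈ A, b ≠ 1 → ∃ g ∈ Subgroup.normalizer (A : Set G),
      g ∈ Subgroup.normalizer (W : Set G) ∧ g * a * g⁻¹ = b) :
    ∃ y ∈ Subgroup.normalizer (A : Set G), y ∈ Subgroup.normalizer (W : Set G) ∧
      (orderOf y).Prime ∧ orderOf y ≠ 2 ∧ ∀ a ∈ A, Commute y a → a = 1 := by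
  classical
  haveI : Fact (Nat.Prime 2) := ⟨Nat.prime_two⟩
  set N := Subgroup.normalizer (A : Set G)
  haveI : Finite (MulAut A) := Finite.of_injective (fun e : MulAut A => (e : A → A))
    fun e f h => DFunLike.coe_injective h
  let L := ((Subgroup.normalizer (W : Set G)).subgroupOf N).map A.normalizerMonoidHom
  have happ : ∀ (g : N) (v : A), ((A.normalizerMonoidHom g v : A) : G) = (g : G) * v * (g : G)⁻¹ :=
    fun _ _ => rfl
  have hfix : ∀ g : N, A.normalizerMonoidHom g = 1 ↔ (g : G) ∈ Subgroup.centralizer (A : Set G) := by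
    intro g
    constructor
    · intro h a ha
      have h1 := happ g ⟨a, ha⟩
      rw [h] at h1
      change a = (g : G) * a * (g : G)⁻¹ at h1
      exact eq_mul_inv_iff_mul_eq.mp h1
    · intro h
      refine MulEquiv.ext fun a => Subtype.ext ?_
      rw [happ, ← h a a.2, mul_inv_cancel_right]
      rfl
  have hlift : ∀ f : L, f ≠ 1 → ∃ g : N, A.normalizerMonoidHom g = (f : MulAut A) ∧
      Odd (orderOf (g : G)) ∧ (g : G) ∈ Subgroup.normalizer (W : Set G) ∧
      orderOf (g : G) = orderOf f := by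
    intro f hf
    obtain ⟨g₀, hg₀, he⟩ := f.2
    obtain ⟨g, hg, hgo, hgz, hga⟩ := S.exists_odd_equiv g₀.2
    have he' : A.normalizerMonoidHom ⟨g, hg⟩ = (f : MulAut A) := by
      rw [← he]
      exact MulEquiv.ext fun a => Subtype.ext (hga a a.2)
    refine ⟨⟨g, hg⟩, he', hgo,
      Subgroup.zpowers_le.mpr (Subgroup.mem_subgroupOf.mp hg₀) hgz,
      S.order_of_action hgo (m := orderOf f) ?_ fun j => ?_⟩
    · have := orderOf_pos f
      have : orderOf f ≠ 1 := fun e => hf (orderOf_eq_one_iff.mp e)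
      omega
    · have h := hfix (⟨g, hg⟩ ^ j)
      rw [map_pow, he', ← Subgroup.coe_pow, OneMemClass.coe_eq_one,
        ← orderOf_dvd_iff_pow_eq_one] at h
      exact h.symm
  obtain ⟨a₀, ha₀, ha₀1⟩ := S.exists_ne
  have horb : Nat.card (MulAction.orbit L (⟨a₀, ha₀⟩ : A)) = Nat.card A - 1 := by
    have e : MulAction.orbit L (⟨a₀, ha₀⟩ : A) = {(1 : A)}ᶜ := by
      ext v
      refine ⟨?_, fun hv => ?_⟩
      · rintro ⟨⟨f, hf⟩, rfl⟩ e
        exact ha₀1 (congrArg Subtype.val
          ((map_eq_one_iff (f : MulAut A) (MulEquiv.injective f)).mp e))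
      · obtain ⟨g, hg, hgW, hgv⟩ := htrans a₀ ha₀ ha₀1 v v.2 fun e => hv (Subtype.ext e)
        exact ⟨⟨A.normalizerMonoidHom ⟨g, hg⟩, ⟨g, hg⟩, hgW, rfl⟩, Subtype.ext hgv⟩
    rw [Nat.card_coe_set_eq, e, Set.ncard_compl, Set.ncard_singleton]
  have hu : Nat.card A - 1 ∣ Nat.card L := by
    rw [← horb, ← Nat.card_congr (MulAction.orbitProdStabilizerEquivGroup L (⟨a₀, ha₀⟩ : A)),
      Nat.card_prod]
    exact dvd_mul_right _ _
  obtain ⟨n, hn⟩ := IsPGroup.iff_card.mp S.two
  have h4 := S.big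
  obtain ⟨s, hs, hsd, hsr⟩ : ∃ s : ℕ, s.Prime ∧ s ∣ Nat.card A - 1 ∧ (s = r → Nat.card A - 1 = r) := by
    by_cases hex : ∃ s : ℕ, s.Prime ∧ s ∣ Nat.card A - 1 ∧ s ≠ r
    · obtain ⟨s, h1, h2, h3⟩ := hex
      exact ⟨s, h1, h2, fun e => absurd e h3⟩
    push Not at hex
    have hj := Nat.eq_prime_pow_of_unique_prime_dvd (show Nat.card A - 1 ≠ 0 by omega)
      fun {d} hd hdd => hex d hd hdd
    have hj0 : 0 < (Nat.card A - 1).primeFactorsList.length := Nat.pos_of_ne_zero fun e => by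
      rw [e, pow_zero] at hj
      omega
    rw [hn] at hj hj0
    have h1 := CIT.prime_pow_pred_two S.hyp.prime hj hj0
    rw [h1, pow_one, ← hn] at hj
    exact ⟨r, S.hyp.prime, hj ▸ dvd_rfl, fun _ => hj⟩
  haveI := Fact.mk hs
  obtain ⟨f, hf⟩ := exists_prime_orderOf_dvd_card' s (hsd.trans hu)
  have hf1 : f ≠ 1 := fun e => hs.ne_one (by rw [← hf, e, orderOf_one])
  obtain ⟨g, hge, hgo, hgW, hgs⟩ := hlift f hf1
  rw [hf] at hgs
  refine ⟨g, g.2, hgW, hgs ▸ hs, fun e => absurd (e ▸ hgo) (by decide), fun a ha hc => ?_⟩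
  by_contra ha1
  have hsr' : s = r := hgs ▸ S.hyp.odd_cent (S.orderOf_invol ha ha1) hc hgo
    fun e => by rw [e, orderOf_one] at hgs; exact hs.ne_one hgs.symm
  have hu' := hsr hsr'
  have hP : IsPGroup s (Subgroup.zpowers f) := IsPGroup.of_card (n := 1)
    (by rw [Nat.card_zpowers, hf, pow_one])
  have hmod := hP.card_modEq_card_fixedPoints A
  have hga : (f : MulAut A) ⟨a, ha⟩ = ⟨a, ha⟩ := by
    rw [← hge]
    exact Subtype.ext ((happ g ⟨a, ha⟩).trans (by rw [hc.eq, mul_inv_cancel_right]))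
  have hmem : ∀ v : A, (f : MulAut A) v = v → v ∈ MulAction.fixedPoints (Subgroup.zpowers f) A := by
    intro v hv x
    obtain ⟨k, hk⟩ := Subgroup.mem_zpowers_iff.mp x.2
    have : f ∈ MulAction.stabilizer L v := hv
    have := Subgroup.zpow_mem _ this k
    rw [hk] at this
    exact this
  have h2 : 2 ≤ Nat.card (MulAction.fixedPoints (Subgroup.zpowers f) A) := by
    rw [Nat.card_coe_set_eq]
    have h3 : ({1, ⟨a, ha⟩} : Set A) ⊆ MulAction.fixedPoints (Subgroup.zpowers f) A := by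
      rintro x (rfl | rfl)
      exacts [hmem _ (map_one _), hmem _ hga]
    refine le_trans ?_ (Set.ncard_le_ncard h3)
    rw [Set.ncard_pair (fun e => ha1 (congrArg Subtype.val e).symm)]
  have h5 : Nat.card (MulAction.fixedPoints (Subgroup.zpowers f) A) = Nat.card A := by
    have hle : Nat.card (MulAction.fixedPoints (Subgroup.zpowers f) A) ≤ Nat.card A :=
      Finite.card_subtype_le _
    set c := Nat.card (MulAction.fixedPoints (Subgroup.zpowers f) A)
    by_contra hne
    have hd : s ∣ Nat.card A - c := (Nat.modEq_iff_dvd' hle).mp hmod.symm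
    have := Nat.le_of_dvd (by omega) hd
    omega
  have hall : MulAction.fixedPoints (Subgroup.zpowers f) A = Set.univ := by
    refine Set.eq_of_subset_of_ncard_le (Set.subset_univ _) ?_
    rw [Set.ncard_univ, ← Nat.card_coe_set_eq, h5]
  refine hf1 (Subtype.ext (MulEquiv.ext fun v => ?_))
  exact (Set.eq_univ_iff_forall.mp hall v) ⟨f, Subgroup.mem_zpowers f⟩

/-- An `r`-subgroup normalised by `N(A)` is centralised by `A`. -/
theorem le_cent_of {W : Subgroup G} (hW : IsPGroup r W)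
    (hAN : A ≤ Subgroup.normalizer (W : Set G))
    (htrans : ∀ a ∈ A, a ≠ 1 → ∀ b ∈ A, b ≠ 1 → ∃ g ∈ Subgroup.normalizer (A : Set G),
      g ∈ Subgroup.normalizer (W : Set G) ∧ g * a * g⁻¹ = b) :
    A ≤ Subgroup.centralizer (W : Set G) := by
  classical
  haveI := Fact.mk S.hyp.prime
  have hWodd : Odd (Nat.card W) := by
    obtain ⟨n, hn⟩ := IsPGroup.iff_card.mp hW
    rw [hn]
    exact S.hyp.rodd.pow
  obtain ⟨y, hyA, hyW, hs, hs2, hfpf⟩ := S.exists_fpf htrans
  set N := Subgroup.normalizer (W : Set G)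
  have hodd : Odd (Nat.card (Abelianization W)) :=
    hWodd.of_dvd_nat (Subgroup.card_quotient_dvd_card _)
  obtain ⟨n, hn⟩ := IsPGroup.iff_card.mp S.two
  have hT : Nat.card (A.subgroupOf N) = 2 ^ n :=
    hn ▸ Nat.card_congr (Subgroup.subgroupOfEquivOfLe hAN).toEquiv
  have hkey : ∀ c ∈ A.subgroupOf N, ∀ v : Abelianization W, actV W c v = v := by
    intro c hc v
    refine ThreeOrders.centralizes_of_norm (actV W) ⟨y, hyW⟩ (orderOf y) (orderOf_pos y)
      (A.subgroupOf N) (fun d hd => (Subgroup.mem_normalizer_iff.mp hyA _).mp hd)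
      (fun i hi hik d hd hid => ?_) (fun b _ w => ?_) ?_ hc v
    · refine Subtype.ext (hfpf (d : G) hd ?_)
      obtain ⟨m, hm⟩ := exists_pow_eq_self_of_coprime (x := y) (n := i)
        (hs.coprime_iff_not_dvd.mpr fun h => absurd (Nat.le_of_dvd hi h) (by omega)).symm
      have h1 : Commute (y ^ i) (d : G) := mul_inv_eq_iff_eq_mul.mp (congrArg Subtype.val hid)
      exact hm ▸ h1.pow_left m
    · have hbo : orderOf (((b * ⟨y, hyW⟩ * b⁻¹ : N)) : G) = orderOf y := MulEquiv.orderOf_eq (MulAut.conj (b : G)) y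
      have hpow : ∀ i : ℕ, actV W (b * (⟨y, hyW⟩ : N) ^ i * b⁻¹) w =
          actV W (b * ⟨y, hyW⟩ * b⁻¹) ^ i • w := fun i => by
        rw [← map_pow, conj_pow]
        rfl
      simp only [hpow]
      exact norm_eq _ (by rw [← hbo, pow_orderOf_eq_one]) (fun x hx =>
        S.hyp.mul_pow_eq_one hW _ hs hs2 hbo hx) w
    · rw [hT]
      exact (Nat.coprime_two_right.mpr hodd).pow_right n
  refine Coprime.le_centralizer_of_frattini hAN ?_ fun a ha k hk => ?_
  · rw [hn]
    exact (Nat.coprime_two_left.mpr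
      (hWodd.of_dvd_nat (Subgroup.card_subgroup_dvd_card _))).pow_left n
  · have h := hkey ⟨a, hAN ha⟩ ha (Abelianization.of ⟨k, hk⟩)
    rw [actV_of, ← mul_inv_eq_one, ← map_inv, ← map_mul, ← MonoidHom.mem_ker,
      Abelianization.ker_of] at h
    refine ⟨_, (CfsgLib.PSolvable.commutator_le_frattini hW).1 h, ?_⟩
    simp [mul_assoc]

end Pre

namespace Setup

variable (S : Setup G r A)
include S

theorem le_cent_W [IsSimpleGroup G] (hnc : ∃ a b : G, a * b ≠ b * a) :
    A ≤ Subgroup.centralizer (closureW A : Set G) :=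
  S.toPre.le_cent_of S.W_pgroup S.le_normalizer_W fun _ ha ha1 _ hb hb1 =>
    let ⟨g, hg, he⟩ := S.transitive hnc ha ha1 hb hb1
    ⟨g, hg, S.normalizer_le hg, he⟩

theorem exists_mul_of_mem_sup {X : Subgroup G} (hX : A ≤ Subgroup.centralizer (X : Set G))
    {x : G} (hx : x ∈ A ⊔ X) : ∃ a ∈ A, ∃ w ∈ X, a * w = x ∧ Commute a w := by
  rw [← SetLike.mem_coe, Subgroup.coe_mul_of_left_le_normalizer_right A X (fun a ha =>
    Subgroup.centralizer_le_normalizer _ (hX ha)), Set.mem_mul] at hx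
  obtain ⟨a, ha, w, hw, e⟩ := hx
  exact ⟨a, ha, w, hw, e, (hX ha w hw).symm⟩

theorem mem_of_invol [IsSimpleGroup G] (hnc : ∃ a b : G, a * b ≠ b * a) {x : G}
    (hx : x ∈ A ⊔ closureW A) (h : x * x = 1) : x ∈ A := by
  obtain ⟨a, ha, w, hw, rfl, hc⟩ := S.exists_mul_of_mem_sup (S.le_cent_W hnc) hx
  have hw2 : w * w = 1 := by
    have : a * w * (a * w) = a * a * (w * w) := by rw [hc.symm.mul_mul_mul_comm]
    rwa [this, S.invol ha, one_mul] at h
  have hw1 : w = 1 := by
    refine orderOf_eq_one_iff.mp (Nat.eq_one_of_dvd_coprimes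
      (Nat.coprime_two_left.mpr S.complete.1)
      (orderOf_dvd_of_pow_eq_one (by rwa [sq])) (Subgroup.orderOf_dvd_natCard _ hw))
  rw [hw1, mul_one]
  exact ha

/-- A subgroup containing `A` whose odd core lies in `W` normalises `A`. -/
theorem le_normalizer_of_core [IsSimpleGroup G] (hnc : ∃ a b : G, a * b ≠ b * a)
    {H : Subgroup G} (hsol : Group.IsSolvable H) (hAH : A ≤ H)
    (hcore : coreIn H ≤ closureW A) : H ≤ Subgroup.normalizer (A : Set G) := by
  intro g hg
  have hn := normal_sup_coreIn hsol S.two S.odd_index (fun _ hx _ hy => S.comm hx hy) hAH hg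
  refine Subgroup.mem_normalizer_iff_map_conj_eq.mpr (Subgroup.eq_of_le_of_card_ge ?_ ?_)
  · rintro _ ⟨x, hx, rfl⟩
    refine S.mem_of_invol hnc (sup_le_sup_left hcore _
      ((Subgroup.mem_normalizer_iff.mp hn x).mp (Subgroup.mem_sup_left hx))) ?_
    show g * x * g⁻¹ * (g * x * g⁻¹) = 1
    rw [show g * x * g⁻¹ * (g * x * g⁻¹) = g * (x * x) * g⁻¹ by group, S.invol hx, mul_one,
      mul_inv_cancel]
  · rw [Subgroup.card_map_of_injective (MulAut.conj g).injective]

theorem cent_le_normalizer [IsSimpleGroup G] (hnc : ∃ a b : G, a * b ≠ b * a) {a : G}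
    (ha : a ∈ A) (h1 : a ≠ 1) :
    Subgroup.centralizer ({a} : Set G) ≤ Subgroup.normalizer (A : Set G) :=
  S.le_normalizer_of_core hnc (S.cent_solvable ha h1) (S.le_cent ha) (S.theta_le_W ha h1)

theorem W_le_cent [IsSimpleGroup G] (hnc : ∃ a b : G, a * b ≠ b * a) :
    closureW A ≤ Subgroup.centralizer (A : Set G) :=
  fun _ hw a ha => (S.le_cent_W hnc ha _ hw).symm

/-- An odd element centralising `A` lies in `W`. -/
theorem mem_W_of_cent [IsSimpleGroup G] {x : G} (hx : x ∈ Subgroup.centralizer (A : Set G))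
    (ho : Odd (orderOf x)) : x ∈ closureW A := by
  obtain ⟨a, ha, h1⟩ := S.exists_ne
  refine S.theta_le_W ha h1 (S.le_theta ha h1 (X := Subgroup.zpowers x) ?_ ?_ ?_
    (Subgroup.mem_zpowers x))
  · rw [Subgroup.zpowers_le]
    exact Subgroup.mem_centralizer_singleton_iff.mpr (hx a ha).symm
  · intro b hb
    refine Subgroup.centralizer_le_normalizer _ (fun y hy => ?_)
    obtain ⟨n, rfl⟩ := Subgroup.mem_zpowers_iff.mp hy
    exact ((show Commute b x from hx b hb).zpow_right n).eq.symm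
  · rwa [Nat.card_zpowers]

/-- Centralisers of non-trivial elements of `W` normalise `A`. -/
theorem cent_W_le [IsSimpleGroup G] (hnc : ∃ a b : G, a * b ≠ b * a) {w : G}
    (hw : w ∈ closureW A) (hw1 : w ≠ 1) :
    Subgroup.centralizer ({w} : Set G) ≤ Subgroup.normalizer (A : Set G) := by
  haveI := S.isMulCommutative
  haveI := Fact.mk S.hyp.prime
  have hwo : orderOf w = r := by
    obtain ⟨k, hk⟩ := S.W_pgroup ⟨w, hw⟩
    exact S.hyp.order_of_pow hw1 (congrArg Subtype.val hk)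
  have hAH : A ≤ Subgroup.centralizer ({w} : Set G) := fun a ha =>
    Subgroup.mem_centralizer_singleton_iff.mpr (S.le_cent_W hnc ha w hw).symm
  refine S.le_normalizer_of_core hnc (S.hyp.cent_solvable (Or.inr hwo)) hAH ?_
  have hnc' : ¬ IsCyclic A := Coprime.not_isCyclic_of_exponent (p := 2)
    (fun a ha => by rw [sq]; exact S.invol ha) two_pos (lt_of_lt_of_le (by norm_num) S.big)
  have hn := hAH.trans (le_normalizer_coreIn _)
  refine Coprime.le_of_centralizer_le hnc' hn ?_ fun a ha h1 => ?_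
  · obtain ⟨k, hk⟩ := IsPGroup.iff_card.mp S.two
    rw [hk]
    exact (Nat.coprime_two_left.mpr (coreIn_odd _)).pow_left k
  · exact (S.le_theta ha h1 inf_le_right (Coprime.le_normalizer_inf_of_le hn
      ((S.le_cent ha).trans Subgroup.le_normalizer))
      ((coreIn_odd _).of_dvd_nat (Subgroup.card_dvd_of_le inf_le_left))).trans (S.theta_le_W ha h1)

end Setup

end CfsgLib.TwoQList
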