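import Mathlib
import Cfsg.Agent.Lib.TwoQList.Central

/-!
The automiser of `A`.
-/

set_option autoImplicit false
set_option linter.style.haveILetI false
set_option linter.unusedSectionVars false

namespace CfsgLib.TwoQList

open CfsgLib.OneComposite (two_r_parts)

variable {G : Type*} [Group G] [Finite G] {r : ℕ} {A : Subgroup G}

/-- The action of the normaliser on `A`. -/
def act (A : Subgroup G) : Subgroup.normalizer (A : Set G) →* MulAut A := A.normalizerMonoidHom

theorem act_apply (g : Subgroup.normalizer (A : Set G)) (a : A) :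
    ((act A g a : A) : G) = (g : G) * a * (g : G)⁻¹ := rfl

theorem act_eq_one {g : Subgroup.normalizer (A : Set G)} :
    act A g = 1 ↔ (g : G) ∈ Subgroup.centralizer (A : Set G) := by
  constructor
  · intro h a ha
    have h1 := act_apply g ⟨a, ha⟩
    rw [h] at h1
    change a = (g : G) * a * (g : G)⁻¹ at h1
    rw [eq_mul_inv_iff_mul_eq] at h1
    exact h1
  · intro h
    refine MulEquiv.ext fun a => Subtype.ext ?_
    show (g : G) * a * (g : G)⁻¹ = a
    rw [← h a a.2, mul_inv_cancel_right]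

namespace Setup

variable (S : Setup G r A)
include S

theorem mem_sup_of_cent [IsSimpleGroup G] {g : G} (hg : g ∈ Subgroup.centralizer (A : Set G)) :
    ∃ a ∈ A, ∃ w ∈ closureW A, a * w = g := by
  by_cases hg1 : g = 1
  · exact ⟨1, one_mem _, 1, one_mem _, by rw [hg1, one_mul]⟩
  have hN : g ∈ Subgroup.normalizer (A : Set G) := Subgroup.centralizer_le_normalizer _ hg
  obtain ⟨c, hcA, hc1⟩ := S.exists_ne
  rcases S.hyp.orders_of_cent (S.orderOf_invol hcA hc1) (show Commute g c from (hg c hcA).symm) hg1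
    with hp | hp
  · by_cases h2 : orderOf g = 2
    · exact ⟨g, S.two_mem hN (by rw [← sq, ← h2, pow_orderOf_eq_one]), 1, one_mem _, mul_one g⟩
    · exact ⟨1, one_mem _, g, S.mem_W_of_cent hg (hp.odd_of_ne_two h2), one_mul g⟩
  · obtain ⟨h1, h2⟩ := two_r_parts S.hyp.prime hp
    obtain ⟨k, hk⟩ := S.hyp.prime.odd_of_ne_two S.hyp.ne_two
    refine ⟨g ^ r, S.two_mem (pow_mem hN r) (by rw [← sq, ← h1, pow_orderOf_eq_one]),
      (g ^ 2) ^ (k + 1), pow_mem (S.mem_W_of_cent (pow_mem hg 2)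
        (h2 ▸ S.hyp.prime.odd_of_ne_two S.hyp.ne_two)) _, ?_⟩
    rw [← pow_mul, ← pow_add, show r + 2 * (k + 1) = orderOf g + 1 by omega, pow_add,
      pow_orderOf_eq_one, one_mul, pow_one]

theorem exists_lift {f : (act A).range} (hf : f ≠ 1) :
    ∃ g : Subgroup.normalizer (A : Set G), orderOf (g : G) = orderOf f ∧
      Odd (orderOf (g : G)) ∧ act A g = f := by
  obtain ⟨g₀, hg₀⟩ := f.2
  obtain ⟨g, hg, hgo, -, hga⟩ := S.exists_odd_equiv g₀.2
  have he : act A ⟨g, hg⟩ = f := by
    rw [← hg₀]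
    exact MulEquiv.ext fun a => Subtype.ext (hga a a.2)
  refine ⟨⟨g, hg⟩, S.order_of_action hgo (m := orderOf f) ?_ fun j => ?_, hgo, he⟩
  · have := orderOf_pos f
    have : orderOf f ≠ 1 := fun e => hf (orderOf_eq_one_iff.mp e)
    omega
  · have h := act_eq_one (g := (⟨g, hg⟩ : Subgroup.normalizer (A : Set G)) ^ j)
    rw [map_pow, he, ← Subgroup.coe_pow, OneMemClass.coe_eq_one, ← orderOf_dvd_iff_pow_eq_one] at h
    exact h.symm

theorem orderOf_eq_r {f : (act A).range} (hd : r ∣ orderOf f) : orderOf f = r := by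
  obtain ⟨g, hgo, hodd, -⟩ := S.exists_lift (f := f) fun e => by
    rw [e, orderOf_one, Nat.dvd_one] at hd
    exact S.hyp.prime.ne_one hd
  rw [← hgo] at hd ⊢
  exact S.hyp.r_of_odd hodd hd

theorem orderOf_eq_of_fix {f : (act A).range} {v : A} (hf : f ≠ 1) (hv : v ≠ 1)
    (hfv : (f : MulAut A) v = v) : orderOf f = r := by
  obtain ⟨g, hgo, hodd, he⟩ := S.exists_lift hf
  rw [← hgo]
  refine S.hyp.odd_cent (S.orderOf_invol v.2 fun e => hv (Subtype.ext e)) ?_ hodd fun e => ?_
  · have h2 := congrArg Subtype.val (show act A g v = v by rw [he]; exact hfv)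
    rw [act_apply, mul_inv_eq_iff_eq_mul] at h2
    exact h2
  · rw [e, orderOf_one] at hgo
    exact hf (orderOf_eq_one_iff.mp hgo.symm)

theorem odd_range : Odd (Nat.card (act A).range) := by
  haveI : Fact (Nat.Prime 2) := ⟨Nat.prime_two⟩
  rw [← Nat.not_even_iff_odd, even_iff_two_dvd]
  intro h
  obtain ⟨f, hf⟩ := exists_prime_orderOf_dvd_card' 2 h
  obtain ⟨g, hgo, hodd, -⟩ := S.exists_lift (f := f) fun e => by rw [e, orderOf_one] at hf; omega
  rw [hgo, hf] at hodd
  exact absurd hodd (by decide)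

theorem invol_mem_normalizer_iff [IsSimpleGroup G] {x : G} :
    (orderOf x = 2 ∧ x ∈ Subgroup.normalizer (A : Set G)) ↔ (x ∈ A ∧ x ≠ 1) := by
  constructor
  · rintro ⟨h, hx⟩
    exact ⟨S.two_mem hx (by rw [← sq, ← h, pow_orderOf_eq_one]),
      fun e => by rw [e, orderOf_one] at h; omega⟩
  · rintro ⟨hx, h1⟩
    exact ⟨S.orderOf_invol hx h1, Subgroup.le_normalizer hx⟩

theorem strongly [IsSimpleGroup G] (hnc : ∃ a b : G, a * b ≠ b * a) :
    Cfsg.IsStronglyEmbedded (Subgroup.normalizer (A : Set G)) := by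
  refine S.strongly_of le_rfl (fun a ha h1 => S.cent_le_normalizer hnc ha h1) fun h => ?_
  rcases (Subgroup.normalizer_eq_top_iff.mp h).eq_bot_or_eq_top with e | e
  · have := S.big
    simp [e] at this
  · obtain ⟨a, b, hab⟩ := hnc
    exact hab (S.comm (e ▸ Subgroup.mem_top a) (e ▸ Subgroup.mem_top b))

end Setup

end CfsgLib.TwoQList
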