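import Mathlib
import Cfsg.Agent.Lib.TwoQList.Automizer
import Cfsg.Agent.Lib.Invol.CAClass
import Cfsg.Agent.Lib.Invol.StronglyEmbedded
import Cfsg.Agent.S0346

/-!
When the automiser acts freely, `C(A) = A × W` gives a Zassenhaus group with a kernel of
non-prime-power order.
-/

set_option autoImplicit false
set_option linter.style.haveILetI false
set_option linter.unusedSectionVars false

namespace CfsgLib.TwoQList

open CfsgLib.OneComposite (two_r_parts)
open CfsgLib.Invol.CASimple (nA invA base mem_cent mk_eq_base_iff smul_base_iff)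

variable {G : Type*} [Group G] [Finite G] {r : ℕ} {A : Subgroup G}

namespace Setup

variable (S : Setup G r A)
include S

theorem free_false [IsSimpleGroup G] (hnc : ∃ a b : G, a * b ≠ b * a)
    (hfree : ∀ f : (act A).range, f ≠ 1 → ∀ v : A, (f : MulAut A) v = v → v = 1) : False := by
  classical
  haveI : Fact (Nat.Prime 2) := ⟨Nat.prime_two⟩
  haveI := Fact.mk S.hyp.prime
  set H := Subgroup.centralizer (A : Set G) with hH
  have hAH : A ≤ H := fun a ha b hb => S.comm hb ha
  have hcent : ∀ a ∈ A, a ≠ 1 → Subgroup.centralizer ({a} : Set G) = H := by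
    intro a ha h1
    refine le_antisymm (fun c hc => ?_)
      (Subgroup.centralizer_le (Set.singleton_subset_iff.mpr ha))
    have hN := S.cent_le_normalizer hnc ha h1 hc
    by_contra hcH
    have hne : (⟨act A ⟨c, hN⟩, ⟨c, hN⟩, rfl⟩ : (act A).range) ≠ 1 := fun e =>
      hcH (act_eq_one.mp (congrArg Subtype.val e))
    refine h1 (congrArg Subtype.val (hfree _ hne ⟨a, ha⟩ (Subtype.ext ?_)))
    show c * a * c⁻¹ = a
    rw [Subgroup.mem_centralizer_singleton_iff.mp hc, mul_inv_cancel_right]
  have hinv : ∀ x ∈ H, x * x = 1 → x ∈ A := fun x hx hxx =>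
    S.two_mem (Subgroup.centralizer_le_normalizer _ hx) hxx
  obtain ⟨a₀, ha₀, ha₀1⟩ := S.exists_ne
  have hr : r ∣ Nat.card H := by
    obtain ⟨x, hx⟩ := S.hyp.ex
    obtain ⟨h1, h2⟩ := two_r_parts S.hyp.prime hx
    obtain ⟨g, hg⟩ := isConj_iff.mp
      (Invol.strongly_isConj (S.strongly hnc) h1 (S.orderOf_invol ha₀ ha₀1))
    have hc : g * x ^ 2 * g⁻¹ ∈ H := by
      rw [← hcent a₀ ha₀ ha₀1, Subgroup.mem_centralizer_singleton_iff, ← hg]
      exact ((Commute.pow_pow_self x 2 r).map (MulAut.conj g).toMonoidHom).eq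
    have := Subgroup.orderOf_dvd_natCard H hc
    rwa [← (SemiconjBy.conj_mk g (x ^ 2)).orderOf_eq, h2] at this
  have h2H : 2 ∣ Nat.card H :=
    S.orderOf_invol ha₀ ha₀1 ▸ Subgroup.orderOf_dvd_natCard H (hAH ha₀)
  have hnpp : ¬ IsPrimePow (Nat.card H) := by
    intro hpp
    obtain ⟨p, k, hp, -, hk⟩ := (isPrimePow_nat_iff _).1 hpp
    rw [← hk] at hr h2H
    exact S.hyp.ne_two (((Nat.prime_dvd_prime_iff_eq S.hyp.prime hp).1
      (S.hyp.prime.dvd_of_dvd_pow hr)).trans
        ((Nat.prime_dvd_prime_iff_eq Nat.prime_two hp).1 (Nat.prime_two.dvd_of_dvd_pow h2H)).symm)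
  have hnn : ¬ H.Normal := fun hn => by
    rcases hn.eq_bot_or_eq_top with e | e
    · exact ha₀1 (Subgroup.mem_bot.1 (e ▸ hAH ha₀))
    · obtain ⟨a, b, hab⟩ := hnc
      have hz : ∀ x : G, Commute a₀ x := fun x => (e ▸ Subgroup.mem_top x : x ∈ H) a₀ ha₀
      rcases ((inferInstance : (Subgroup.center G).Normal)).eq_bot_or_eq_top with h | h
      · exact ha₀1 (Subgroup.mem_bot.1 (h ▸ Subgroup.mem_center_iff.2 fun x => (hz x).eq.symm))
      · exact hab (Subgroup.mem_center_iff.1 (h ▸ Subgroup.mem_top b) a)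
  have hle : Subgroup.normalizer (A : Set G) ≤ Subgroup.normalizer (H : Set G) :=
    Coprime.le_normalizer_centralizer le_rfl
  have hS : Invol.CASimple.Setup H a₀ :=
    { invC := fun x hx hxx hx1 => hcent x (hinv x hx hxx) hx1
      sq := S.invol ha₀
      ne := ha₀1
      eq := (hcent a₀ ha₀ ha₀1).symm
      nonnormal := hnn
      sylow := fun h => S.odd_index (h.trans (Subgroup.index_dvd_of_le hAH))
      cle := fun x hx hx1 => by
        obtain ⟨a, ha, w, hw, rfl⟩ := S.mem_sup_of_cent hx
        by_cases ha1 : a = 1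
        · rw [ha1, one_mul] at hx1 ⊢
          exact (S.cent_W_le hnc hw hx1).trans hle
        intro c hc
        have hpow : (a * w) ^ r = a := by
          obtain ⟨k, hk⟩ := S.hyp.rodd
          rw [(show Commute a w from (S.W_le_cent hnc hw a ha)).mul_pow,
            S.hyp.pow_eq_one_of_pgroup S.W_pgroup hw, mul_one, hk, pow_succ, pow_mul, sq,
            S.invol ha, one_pow, one_mul]
        have hca : c ∈ Subgroup.centralizer ({a} : Set G) := by
          rw [← hpow]
          exact Subgroup.mem_centralizer_singleton_iff.mpr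
            ((show Commute c (a * w) from Subgroup.mem_centralizer_singleton_iff.mp hc).pow_right r).eq
        rw [hcent a ha ha1] at hca
        exact Subgroup.le_normalizer hca }
  have he : 2 ≤ (invA H).ncard := by
    have hsub : ((A : Set G) \ {1}) ⊆ invA H := fun x hx =>
      ⟨hAH hx.1, S.invol hx.1, fun e => hx.2 e⟩
    refine le_trans ?_ (Set.ncard_le_ncard hsub (Set.toFinite _))
    rw [Set.ncard_diff_singleton_of_mem (one_mem A), ← Nat.card_coe_set_eq]
    have := S.big
    show 2 ≤ Nat.card A - 1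
    omega
  haveI : Fintype (G ⧸ nA H) := Fintype.ofFinite _
  have hpp := Cfsg.Agent.S0346.result (hS.isZassenhaus he)
  apply hnpp
  obtain ⟨u, -, -, hu⟩ := hS.exists_outside
  obtain ⟨c, hc⟩ : ∃ c : G ⧸ nA H, c ≠ base H :=
    ⟨QuotientGroup.mk u, fun e => hu (mk_eq_base_iff.1 e)⟩
  have hf : Function.Bijective (fun a : H => (⟨(a : G) • c, fun e => hc (MulAction.injective (a : G)
      (e.trans (smul_base_iff.2 (Subgroup.le_normalizer a.2)).symm))⟩ : {d : G ⧸ nA H // d ≠ base H})) := by
    refine ⟨fun a b e => ?_, fun d => ?_⟩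
    · exact (hS.regular he c _ hc ((fun h => hc (MulAction.injective (b : G)
        (h.trans (smul_base_iff.2 (Subgroup.le_normalizer b.2)).symm))))).unique
        (congrArg Subtype.val e) rfl
    · obtain ⟨a, ha, -⟩ := hS.regular he c d.1 hc d.2
      exact ⟨a, Subtype.ext ha⟩
  rw [Nat.card_eq_of_bijective _ hf]
  have : Nat.card {d : G ⧸ nA H // d ≠ base H} = Fintype.card (G ⧸ nA H) - 1 := by
    rw [Nat.card_eq_fintype_card, Fintype.card_subtype_compl, Fintype.card_subtype_eq]
  rwa [this]

end Setup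

end CfsgLib.TwoQList
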