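import Mathlib
import Cfsg.Agent.Lib.TwoQList.Automizer
import Cfsg.Agent.Lib.CIT.PSLCond

/-!
When some element of the automiser fixes an involution, the odd part `W` is trivial.
-/

set_option autoImplicit false
set_option linter.style.haveILetI false
set_option linter.unusedSectionVars false

namespace CfsgLib.TwoQList

open Finset
open CfsgLib.OneComposite (actV actV_of norm_eq frobenius_pow_card plane_pow_card prod_range_eq_one)

variable {G : Type*} [Group G] [Finite G] {r : ℕ} {A : Subgroup G}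

open scoped commutatorElement

namespace Setup

variable (S : Setup G r A)
include S

theorem actV_eq_one [IsSimpleGroup G] (hnc : ∃ a b : G, a * b ≠ b * a) {g : G}
    (hg : g ∈ Subgroup.centralizer (A : Set G))
    (hgW : g ∈ Subgroup.normalizer (closureW A : Set G)) :
    actV (closureW A) ⟨g, hgW⟩ = 1 := by
  obtain ⟨a, ha, w, hw, rfl⟩ := S.mem_sup_of_cent hg
  refine MulEquiv.ext fun v => ?_
  induction v using QuotientGroup.induction_on with
  | H x =>
    show actV (closureW A) ⟨a * w, hgW⟩ (Abelianization.of x) = Abelianization.of x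
    rw [actV_of]
    have e : (⟨a * w * (x : G) * (a * w)⁻¹, (Subgroup.mem_normalizer_iff.mp hgW _).mp x.2⟩ :
        closureW A) = ⟨w, hw⟩ * x * ⟨w, hw⟩⁻¹ := Subtype.ext (by
      show a * w * (x : G) * (a * w)⁻¹ = w * x * w⁻¹
      have hc : a * (w * x * w⁻¹) = w * x * w⁻¹ * a :=
        (S.le_cent_W hnc ha _ (mul_mem (mul_mem hw x.2) (inv_mem hw))).symm
      rw [show a * w * (x : G) * (a * w)⁻¹ = a * (w * x * w⁻¹) * a⁻¹ by group, hc,
        mul_inv_cancel_right])
    exact (congrArg Abelianization.of e).trans (by simp [mul_comm])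

open scoped IsMulCommutative in
theorem W_eq_bot [IsSimpleGroup G] (hnc : ∃ a b : G, a * b ≠ b * a)
    (P : Subgroup (act A).range) (hP : P.Normal) {p : ℕ} (hp : p.Prime) (hpr : p ≠ r) (hp2 : p ≠ 2)
    (hPcard : Nat.card P = p) (hr : r ∣ Nat.card (act A).range) : closureW A = ⊥ := by
  classical
  by_contra hW1
  haveI := Fact.mk S.hyp.prime
  haveI := Fact.mk hp
  haveI := S.isMulCommutative
  set W := closureW A
  haveI : Finite (MulAut (Abelianization W)) :=
    Finite.of_injective (fun e : MulAut (Abelianization W) => (e : Abelianization W → Abelianization W))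
      fun e f h => DFunLike.coe_injective h
  haveI : Nontrivial W := (Subgroup.nontrivial_iff_ne_bot W).mpr hW1
  haveI : Group.IsNilpotent W := S.W_pgroup.isNilpotent
  obtain ⟨v₀, hv₀⟩ : ∃ v : Abelianization W, v ≠ 1 := by
    obtain ⟨x, -, hx⟩ := SetLike.exists_of_lt (Group.IsSolvable.commutator_lt_top_of_nontrivial W)
    exact ⟨Abelianization.of x, fun e => hx (by
      rwa [← MonoidHom.mem_ker, Abelianization.ker_of] at e)⟩
  have hVr : ∀ v : Abelianization W, v ^ r = 1 := by
    intro v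
    induction v using QuotientGroup.induction_on with
    | H x =>
      show (Abelianization.of x) ^ r = 1
      rw [← map_pow, ← map_one (Abelianization.of (G := W))]
      exact congrArg _ (Subtype.ext (S.hyp.pow_eq_one_of_pgroup S.W_pgroup x.2))
  have hVp : ∀ v : Abelianization W, v ^ p = 1 → v = 1 := fun v hv =>
    orderOf_eq_one_iff.mp (Nat.eq_one_of_dvd_coprimes ((Nat.coprime_primes hp S.hyp.prime).mpr hpr)
      (orderOf_dvd_of_pow_eq_one hv) (orderOf_dvd_of_pow_eq_one (hVr v)))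
  -- the elements
  obtain ⟨⟨π, hπP⟩, hπ⟩ := exists_prime_orderOf_dvd_card' p hPcard.symm.dvd
  rw [Subgroup.orderOf_mk] at hπ
  obtain ⟨ρ, hρ⟩ := exists_prime_orderOf_dvd_card' r hr
  have hπ1 : π ≠ 1 := fun e => by rw [e, orderOf_one] at hπ; exact hp.ne_one hπ.symm
  have hρ1 : ρ ≠ 1 := fun e => by rw [e, orderOf_one] at hρ; exact S.hyp.prime.ne_one hρ.symm
  obtain ⟨x, hxo, -, hx⟩ := S.exists_lift hπ1
  obtain ⟨z, hzo, -, hz⟩ := S.exists_lift hρ1
  rw [hπ] at hxo
  rw [hρ] at hzo
  obtain ⟨k, hk⟩ : ∃ k : ℕ, π ^ k = ρ * π * ρ⁻¹ := by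
    have h1 : ρ * π * ρ⁻¹ ∈ Subgroup.zpowers π := by
      have e : Subgroup.zpowers π = P := Subgroup.eq_of_le_of_card_ge
        (Subgroup.zpowers_le.mpr hπP) (by rw [Nat.card_zpowers, hπ, hPcard])
      rw [e]; exact hP.conj_mem π hπP ρ
    rw [mem_zpowers_iff_mem_range_orderOf, Finset.mem_image] at h1
    exact h1.imp fun _ h => h.2
  let toN : Subgroup.normalizer (A : Set G) →* Subgroup.normalizer (W : Set G) :=
    Subgroup.inclusion S.normalizer_le
  let Ψ : Subgroup.normalizer (A : Set G) →* MulAut (Abelianization W) := (actV W).comp toN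
  set X := Ψ x
  set Z := Ψ z
  have hker : ∀ g : Subgroup.normalizer (A : Set G), act A g = 1 → Ψ g = 1 := fun g hg =>
    S.actV_eq_one hnc (act_eq_one.mp hg) (S.normalizer_le g.2)
  have hZX : Z * X * Z⁻¹ = X ^ k := by
    have h1 : act A ((x ^ k)⁻¹ * (z * x * z⁻¹)) = 1 := by
      rw [map_mul, map_inv, map_pow, map_mul, map_mul, map_inv, hx, hz, inv_mul_eq_one]
      exact congrArg Subtype.val hk
    have h2 := hker _ h1
    rw [map_mul, map_inv, map_pow, map_mul, map_mul, map_inv, inv_mul_eq_one] at h2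
    exact h2.symm
  have hnorm : ∀ (g : Subgroup.normalizer (A : Set G)) (s : ℕ), s.Prime → s ≠ 2 →
      orderOf (g : G) = s → ∀ v : Abelianization W, ∏ i ∈ range s, Ψ g ^ i • v = 1 :=
    fun g s hs hs2 hg v => norm_eq (toN g) (show (g : G) ^ s = 1 from hg ▸ pow_orderOf_eq_one _)
      (fun w hw => S.hyp.mul_pow_eq_one S.W_pgroup (toN g) hs hs2 hg hw) v
  have hfreeX : ∀ v : Abelianization W, X • v = v → v = 1 := by
    intro v hv
    refine hVp v ?_
    have h := hnorm x p hp hp2 hxo v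
    have hi : ∀ i : ℕ, X ^ i • v = v := by
      intro i
      induction i with
      | zero => rw [pow_zero, one_smul]
      | succ i ih => rw [pow_succ', mul_smul, ih, hv]
    rwa [Finset.prod_congr rfl (fun i _ => hi i), Finset.prod_const, Finset.card_range] at h
  have hXp : X ^ p = 1 := by
    rw [← map_pow, show x ^ p = 1 from Subtype.ext (hxo ▸ pow_orderOf_eq_one (x : G)), map_one]
  have hXo : orderOf X = p :=
    orderOf_eq_prime hXp fun e => hv₀ (hfreeX v₀ (by rw [e, one_smul]))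
  haveI := Fintype.ofFinite (Subgroup.zpowers X)
  refine hv₀ (hVp v₀ ?_)
  rw [← hXo, ← Nat.card_zpowers, Nat.card_eq_fintype_card]
  refine frobenius_pow_card (z := Z) (s := r) S.hyp.prime.pos (fun u hu => ?_) (fun i hi hir u hu hc => ?_)
    (fun v => FourOrbit.norm_eq_one _ (fun v hv => hfreeX v (hv X (Subgroup.mem_zpowers X))) v)
    (fun u hu v => ?_) v₀
  · obtain ⟨n, rfl⟩ := Subgroup.mem_zpowers_iff.mp hu
    rw [← conj_zpow, hZX]
    exact zpow_mem (pow_mem (Subgroup.mem_zpowers X) k) n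
  · by_contra hu1
    have hgen : X ∈ Subgroup.zpowers u := by
      have e : Subgroup.zpowers u = Subgroup.zpowers X := by
        refine Subgroup.eq_of_le_of_card_ge (Subgroup.zpowers_le.mpr hu) ?_
        rw [Nat.card_zpowers, Nat.card_zpowers, hXo, ((Nat.dvd_prime hp).mp (hXo ▸
          (Nat.card_zpowers X ▸ Subgroup.orderOf_dvd_natCard _ hu))).resolve_left
            fun e => hu1 (orderOf_eq_one_iff.mp e)]
      rw [e]; exact Subgroup.mem_zpowers X
    obtain ⟨n, hn⟩ := Subgroup.mem_zpowers_iff.mp hgen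
    have hc1 : Commute X (Z ^ i) := hn ▸ hc.zpow_left n
    obtain ⟨m, hm⟩ : ∃ m, (z ^ i) ^ m = z := by
      refine exists_pow_eq_self_of_coprime ?_
      rw [← Subgroup.orderOf_coe, hzo]
      exact (S.hyp.prime.coprime_iff_not_dvd.mpr fun hd => absurd (Nat.le_of_dvd hi hd) (by omega)).symm
    have hc2 : Commute X Z := by
      have := hc1.pow_right m
      rwa [← map_pow, ← map_pow, hm] at this
    rw [← hc2.eq, mul_inv_cancel_right] at hZX
    have h3 : π ^ k = π := by
      have hmod : k ≡ 1 [MOD p] := by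
        rw [← hXo]; exact pow_eq_pow_iff_modEq.mp (by rw [pow_one, ← hZX])
      exact (pow_eq_pow_iff_modEq.mpr (hπ.symm ▸ hmod)).trans (pow_one π)
    rw [hk, mul_inv_eq_iff_eq_mul] at h3
    refine hpr ?_
    by_contra hne
    have ho := (show Commute ρ π from h3).orderOf_mul_eq_mul_orderOf_of_coprime
      (by rw [hρ, hπ]; exact (Nat.coprime_primes S.hyp.prime hp).mpr (Ne.symm hne))
    rw [hρ, hπ] at ho
    have hF := S.orderOf_eq_r (f := ρ * π) (ho ▸ dvd_mul_right r p)
    rw [ho] at hF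
    exact hp.ne_one ((Nat.mul_eq_left S.hyp.prime.ne_zero).mp hF)
  · obtain ⟨n, rfl⟩ := Subgroup.mem_zpowers_iff.mp hu
    have e : X ^ n * Z * (X ^ n)⁻¹ = Ψ (x ^ n * z * (x ^ n)⁻¹) := by
      rw [map_mul, map_mul, map_inv, map_zpow]
    rw [e]
    refine hnorm _ r S.hyp.prime S.hyp.ne_two ?_ v
    rw [← hzo]
    exact ((SemiconjBy.conj_mk ((x ^ n : Subgroup.normalizer (A : Set G)) : G) (z : G)).orderOf_eq).symm

open scoped IsMulCommutative in
/-- A normal subgroup of prime order different from `r` in the automiser. -/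
theorem exists_normal_prime [IsSimpleGroup G] (hnc : ∃ a b : G, a * b ≠ b * a)
    (hfix : ∃ f : (act A).range, f ≠ 1 ∧ ∃ v : A, v ≠ 1 ∧ (f : MulAut A) v = v) :
    r ∣ Nat.card (act A).range ∧
      ∃ (p : ℕ) (P : Subgroup (act A).range), p.Prime ∧ p ≠ r ∧ p ≠ 2 ∧ P.Normal ∧ Nat.card P = p := by
  classical
  haveI := S.isMulCommutative
  haveI := Fact.mk S.hyp.prime
  set K := (act A).range
  obtain ⟨f₀, hf₀, v₀, hv₀, hfv₀⟩ := hfix
  have hrK : r ∣ Nat.card (act A).range := S.orderOf_eq_of_fix hf₀ hv₀ hfv₀ ▸ orderOf_dvd_natCard f₀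
  refine ⟨hrK, ?_⟩
  haveI : Finite (MulAut A) := Finite.of_injective (fun e : MulAut A => (e : A → A))
    fun e f h => DFunLike.coe_injective h
  have hKodd : Odd (Nat.card K) := S.odd_range
  haveI : Group.IsSolvable K := RealClassGraph.solvable_of_odd hKodd
  haveI : Nontrivial K := ⟨f₀, 1, hf₀⟩
  have htrans : ∀ a b : A, a ≠ 1 → b ≠ 1 → ∃ f : K, f • a = b := fun a b ha hb => by
    obtain ⟨g, hg, he⟩ := S.transitive hnc a.2 (fun e => ha (Subtype.ext e)) b.2
      (fun e => hb (Subtype.ext e))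
    exact ⟨⟨act A ⟨g, hg⟩, ⟨g, hg⟩, rfl⟩, Subtype.ext he⟩
  have hfree : ∀ f : K, f ≠ 1 → orderOf f ≠ r → ∀ v : A, f • v = v → v = 1 := fun f hf hr v hv =>
    by_contra fun h1 => hr (S.orderOf_eq_of_fix hf h1 hv)
  have heq_one : ∀ {k : ℕ}, Odd k → ∀ v : A, v ^ k = 1 → v = 1 := by
    intro k hk v hv
    obtain ⟨m, rfl⟩ := hk
    rwa [pow_succ, pow_mul, sq, show v * v = 1 from Subtype.ext (S.invol v.2), one_pow, one_mul] at hv
  obtain ⟨n, hn⟩ := (Group.isSolvable_def K).mp inferInstance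
  have hex : ∃ n, derivedSeries K n = ⊥ := ⟨n, hn⟩
  obtain ⟨m, hm⟩ : ∃ m, Nat.find hex = m + 1 := by
    refine ⟨Nat.find hex - 1, ?_⟩
    rcases Nat.eq_zero_or_pos (Nat.find hex) with h0 | h0
    · exact absurd (h0 ▸ Nat.find_spec hex) (by simp [derivedSeries_zero, top_ne_bot])
    · omega
  set P := derivedSeries K m with hP
  have hPne : P ≠ ⊥ := Nat.find_min hex (by omega)
  have hPn : P.Normal := derivedSeries_normal K m
  have hPc : ∀ a ∈ P, ∀ b ∈ P, a * b = b * a := by
    intro a ha b hb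
    have hb' : ⁅a, b⁆ ∈ derivedSeries K (m + 1) := by
      rw [derivedSeries_succ]; exact Subgroup.commutator_mem_commutator ha hb
    rw [← hm, Nat.find_spec hex, Subgroup.mem_bot, commutatorElement_eq_one_iff_mul_comm] at hb'
    exact hb'
  by_cases hA : ∃ x ∈ P, (orderOf x).Prime ∧ orderOf x ≠ r
  · obtain ⟨x, hx, hxp, hxr⟩ := hA
    haveI := Fact.mk hxp
    haveI := Fintype.ofFinite (Subgroup.zpowers x)
    have hx1 : x ≠ 1 := fun e => hxp.ne_one (by rw [e, orderOf_one])
    have hline : ∀ y ∈ P, orderOf y = orderOf x → y ∈ Subgroup.zpowers x := by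
      intro y hy hyo
      by_contra hy'
      refine hv₀ (heq_one (hKodd.of_dvd_nat (orderOf_dvd_natCard x)) v₀
        (plane_pow_card (P := Subgroup.zpowers x) (x := y) (p := orderOf x) (Nat.card_zpowers x)
          (fun w hw => hPc y hy w ((Subgroup.zpowers_le.mpr hx) hw))
          (fun v => FourOrbit.norm_eq_one _
            (fun v hv => hfree x hx1 hxr v (hv x (Subgroup.mem_zpowers x))) v)
          (fun w hw v => ?_) v₀))
      have hwc : Commute w y := hPc w ((Subgroup.zpowers_le.mpr hx) hw) y hy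
      have hne : w * y ≠ 1 := fun e => hy' (by
        rw [mul_eq_one_iff_eq_inv'] at e
        rw [e]; exact inv_mem hw)
      have hpow : (w * y) ^ orderOf x = 1 := by
        obtain ⟨k, rfl⟩ := Subgroup.mem_zpowers_iff.mp hw
        rw [hwc.mul_pow, ← zpow_natCast, ← zpow_mul, mul_comm, zpow_mul, zpow_natCast,
          pow_orderOf_eq_one, one_zpow, ← hyo, pow_orderOf_eq_one, one_mul]
      exact prod_range_eq_one hpow (hfree _ hne fun e => hxr (((Nat.dvd_prime hxp).mp
        (e ▸ orderOf_dvd_of_pow_eq_one hpow)).resolve_left S.hyp.prime.ne_one).symm) v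
    refine ⟨orderOf x, Subgroup.zpowers x, hxp, hxr, fun e => ?_, ⟨fun y hy g => ?_⟩,
      Nat.card_zpowers x⟩
    · have := hKodd.of_dvd_nat (orderOf_dvd_natCard x)
      rw [e] at this
      exact absurd this (by decide)
    · obtain ⟨k, rfl⟩ := Subgroup.mem_zpowers_iff.mp hy
      rw [← conj_zpow]
      exact zpow_mem (hline _ (hPn.conj_mem x hx g) (SemiconjBy.conj_mk g x).orderOf_eq.symm) k
  exfalso
  push Not at hA
  have hPr : ∀ u ∈ P, u ≠ 1 → orderOf u = r := by
    intro u hu hu1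
    obtain ⟨d, hd, hdd⟩ := Nat.exists_prime_and_dvd fun e => hu1 (orderOf_eq_one_iff.mp e)
    have ho : orderOf (u ^ (orderOf u / d)) = d := orderOf_pow_orderOf_div (orderOf_pos u).ne' hdd
    have := hA _ (pow_mem hu _) (ho ▸ hd)
    exact S.orderOf_eq_r ((ho.symm.trans this) ▸ hdd)
  have hPfix : ∀ v : A, (∀ u ∈ P, u • v = v) → v = 1 := by
    intro v hv
    by_contra hv1
    refine hPne ((Subgroup.eq_bot_iff_forall _).mpr fun x hx => Subtype.ext (MulEquiv.ext fun w => ?_))
    show x • w = w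
    by_cases hw : w = 1
    · rw [hw, smul_one]
    obtain ⟨g, rfl⟩ := htrans v w hv1 hw
    have := hv _ (hPn.conj_mem x hx g⁻¹)
    rwa [inv_inv, mul_smul, mul_smul, inv_smul_eq_iff] at this
  haveI := Fintype.ofFinite P
  by_cases hπ : ∃ π : K, (orderOf π).Prime ∧ orderOf π ≠ r
  · obtain ⟨π, hπp, hπr⟩ := hπ
    have hπ1 : π ≠ 1 := fun e => hπp.ne_one (by rw [e, orderOf_one])
    have hPodd : Odd (Fintype.card P) := by
      rw [← Nat.card_eq_fintype_card]
      exact hKodd.of_dvd_nat (Subgroup.card_subgroup_dvd_card P)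
    refine hv₀ (heq_one hPodd v₀ (frobenius_pow_card (z := π) hπp.pos
      (fun u hu => hPn.conj_mem u hu π) (fun i hi his u hu hc => ?_)
      (fun v => FourOrbit.norm_eq_one P hPfix v) (fun u hu v => ?_) v₀))
    · by_contra hu1
      obtain ⟨k, hk⟩ := exists_pow_eq_self_of_coprime
        ((hπp.coprime_iff_not_dvd.mpr fun hd => absurd (Nat.le_of_dvd hi hd) (by omega)).symm :
          i.Coprime (orderOf π))
      have hc' : Commute u π := hk ▸ hc.pow_right k
      have ho := hc'.orderOf_mul_eq_mul_orderOf_of_coprime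
        (by rw [hPr u hu hu1]; exact (Nat.coprime_primes S.hyp.prime hπp).mpr (Ne.symm hπr))
      rw [hPr u hu hu1] at ho
      have := S.orderOf_eq_r (f := u * π) (ho ▸ dvd_mul_right r _)
      rw [ho] at this
      exact hπp.ne_one ((Nat.mul_eq_left S.hyp.prime.ne_zero).mp this)
    · refine prod_range_eq_one (by rw [conj_pow, pow_orderOf_eq_one, mul_one, mul_inv_cancel])
        (fun w hw => ?_) v
      rw [mul_smul, mul_smul, ← eq_inv_smul_iff] at hw
      exact (inv_smul_eq_iff.mp (hfree π hπ1 hπr _ hw)).trans (smul_one u)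
  push Not at hπ
  obtain ⟨k, hk⟩ : ∃ k, Nat.card K = r ^ k := ⟨_, Nat.eq_prime_pow_of_unique_prime_dvd
    Nat.card_pos.ne' fun {d} hd hdd => by
      haveI := Fact.mk hd
      obtain ⟨x, hx⟩ := exists_prime_orderOf_dvd_card' d hdd
      exact hx ▸ hπ x (hx ▸ hd)⟩
  set Z := MulAction.stabilizer K v₀ with hZ
  have horb : Nat.card (MulAction.orbit K v₀) = Nat.card A - 1 := by
    have e : MulAction.orbit K v₀ = {(1 : A)}ᶜ := by
      ext v
      refine ⟨?_, fun hv => htrans v₀ v hv₀ hv⟩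
      rintro ⟨f, rfl⟩ e
      exact hv₀ (smul_left_cancel f (by simpa using e))
    rw [Nat.card_coe_set_eq, e, Set.ncard_compl, Set.ncard_singleton]
  have hidx : Z.index = Nat.card A - 1 := by
    rw [Subgroup.index, ← Nat.card_congr (MulAction.orbitEquivQuotientStabilizer K v₀), horb]
  obtain ⟨j, -, hj⟩ := (Nat.dvd_prime_pow S.hyp.prime).mp
    (hk ▸ hidx ▸ Subgroup.index_dvd_card Z)
  obtain ⟨e, he⟩ := IsPGroup.iff_card.mp S.two
  have h4 := S.big
  have hj0 : 0 < j := Nat.pos_of_ne_zero fun h => by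
    rw [h, pow_zero] at hj
    omega
  rw [he] at hj
  rw [CIT.prime_pow_pred_two S.hyp.prime hj hj0, pow_one, ← he, ← hidx] at hj
  have hk0 : k ≠ 0 := fun e0 => by
    rw [e0, pow_zero] at hk
    exact S.hyp.prime.ne_one (Nat.dvd_one.mp (hk ▸ hrK))
  have hZn : Z.Normal := Subgroup.normal_of_index_eq_minFac_card
    (by rw [hj, hk, Nat.Prime.pow_minFac S.hyp.prime hk0])
  refine hf₀ (Subtype.ext (MulEquiv.ext fun w => ?_))
  show f₀ • w = w
  by_cases hw : w = 1
  · rw [hw, smul_one]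
  obtain ⟨g, rfl⟩ := htrans v₀ w hv₀ hw
  have := MulAction.mem_stabilizer_iff.mp (hZn.conj_mem f₀ (MulAction.mem_stabilizer_iff.mpr hfv₀) g⁻¹)
  rwa [inv_inv, mul_smul, mul_smul, inv_smul_eq_iff] at this

end Setup

end CfsgLib.TwoQList
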