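import Mathlib
import Cfsg.Agent.Lib.TwoQList.WZero
import Cfsg.Agent.Lib.Invol.StronglyEmbedded
import Cfsg.Agent.Lib.Transfer.Basic

/-!
Non-free action of the automiser with `C(A) = A`: every element of order `r` centralises at most
one involution of `A`.
-/

set_option autoImplicit false
set_option linter.style.haveILetI false
set_option linter.unusedSectionVars false

namespace CfsgLib.TwoQList

open CfsgLib.OneComposite (coreIn coreIn_le coreIn_odd conj_mem_coreIn le_odd_core)

variable {G : Type*} [Group G] [Finite G] {r : ℕ} {A : Subgroup G}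

/-- The automiser does not act freely and `C(A) = A`. -/
structure Frob (G : Type*) [Group G] [Finite G] (r : ℕ) (A : Subgroup G) : Prop where
  setup : Setup G r A
  nc : ∃ a b : G, a * b ≠ b * a
  self_cent : ∀ g ∈ Subgroup.centralizer (A : Set G), g ∈ A
  notfree : ∃ f : (act A).range, f ≠ 1 ∧ ∃ v : A, v ≠ 1 ∧ (f : MulAut A) v = v

namespace Frob

variable (h : Frob G r A) [IsSimpleGroup G]
include h

theorem exists_P : r ∣ Nat.card (act A).range ∧
    ∃ (p : ℕ) (P : Subgroup (act A).range), p.Prime ∧ p ≠ r ∧ p ≠ 2 ∧ P.Normal ∧ Nat.card P = p :=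
  h.setup.exists_normal_prime h.nc h.notfree

/-- The automiser has a cyclic image which is faithful on the elements of order `r`. -/
theorem exists_char : ∃ (P : Subgroup (act A).range) (_ : P.Normal),
    IsCyclic (MulAut P) ∧ ∀ x : (act A).range, orderOf x = r → MulAut.conjNormal (H := P) x ≠ 1 := by
  classical
  obtain ⟨-, p, P, hp, hpr, -, hPn, hPc⟩ := h.exists_P
  haveI := Fact.mk hp
  haveI : IsCyclic P := isCyclic_of_prime_card hPc
  haveI : Fact (Nat.card P).Prime := ⟨hPc ▸ hp⟩
  refine ⟨P, hPn, isCyclic_of_surjective _ (IsCyclic.mulAutMulEquiv P).symm.surjective,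
    fun x hx e => ?_⟩
  obtain ⟨⟨π, hπP⟩, hπ⟩ := exists_prime_orderOf_dvd_card' p hPc.symm.dvd
  rw [Subgroup.orderOf_mk] at hπ
  have h1 := congrArg (fun e : MulAut P => ((e ⟨π, hπP⟩ : P) : (act A).range)) e
  change x * π * x⁻¹ = π at h1
  have hc : Commute x π := mul_inv_eq_iff_eq_mul.mp h1
  have ho := hc.orderOf_mul_eq_mul_orderOf_of_coprime
    (by rw [hx, hπ]; exact (Nat.coprime_primes h.setup.hyp.prime hp).mpr (Ne.symm hpr))
  rw [hx, hπ] at ho
  have h2 := h.setup.orderOf_eq_r (f := x * π) (ho ▸ dvd_mul_right r p)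
  rw [ho] at h2
  exact hp.ne_one ((Nat.mul_eq_left h.setup.hyp.prime.ne_zero).mp h2)

/-- A subgroup of the automiser with all orders `r` has order dividing `r`. -/
theorem card_dvd_of_exp {Z : Subgroup (act A).range} (hZ : ∀ z ∈ Z, z ≠ 1 → orderOf z = r) :
    Nat.card Z ∣ r := by
  obtain ⟨P, hPn, hcyc, hker⟩ := h.exists_char
  haveI := hPn
  haveI := hcyc
  let φ : Z →* MulAut P := (MulAut.conjNormal (H := P)).comp Z.subtype
  have hφ : Function.Injective φ := (injective_iff_map_eq_one φ).mpr fun z hz => by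
    by_contra hz1
    exact hker z (hZ z z.2 fun e => hz1 (Subtype.ext e)) hz
  haveI : IsCyclic Z := isCyclic_of_injective φ hφ
  rw [← IsCyclic.exponent_eq_card]
  refine Monoid.exponent_dvd_of_forall_pow_eq_one fun z => Subtype.ext ?_
  by_cases hz : (z : (act A).range) = 1
  · rw [Subgroup.coe_pow, hz, one_pow, Subgroup.coe_one]
  · rw [Subgroup.coe_pow, ← hZ z z.2 hz, pow_orderOf_eq_one, Subgroup.coe_one]

/-- An element normalising a subgroup of order `r` centralises it. -/
theorem commute_of_conj {f ρ : (act A).range} (hρ : orderOf ρ = r)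
    (hn : f * ρ * f⁻¹ ∈ Subgroup.zpowers ρ) : Commute f ρ := by
  obtain ⟨P, hPn, hcyc, hker⟩ := h.exists_char
  haveI := hPn
  haveI := hcyc
  haveI := Fact.mk h.setup.hyp.prime
  set x := f * ρ * f⁻¹ * ρ⁻¹ with hx
  have hmem : x ∈ Subgroup.zpowers ρ := mul_mem hn (inv_mem (Subgroup.mem_zpowers ρ))
  have h1 : MulAut.conjNormal (H := P) x = 1 := by
    rw [hx, map_mul, map_mul, map_mul, map_inv, map_inv,
      mul_comm' (MulAut.conjNormal (H := P) f), mul_inv_cancel_right,
      mul_inv_cancel]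
  by_cases hx1 : x = 1
  · exact mul_inv_eq_iff_eq_mul.mp (mul_inv_eq_one.mp hx1)
  exact absurd h1 (hker x (((Nat.dvd_prime h.setup.hyp.prime).mp
    (hρ ▸ Nat.card_zpowers ρ ▸ Subgroup.orderOf_dvd_natCard _ hmem)).resolve_left
      fun e => hx1 (orderOf_eq_one_iff.mp e)))

theorem act_eq_one_iff {g : Subgroup.normalizer (A : Set G)} : act A g = 1 ↔ (g : G) ∈ A :=
  act_eq_one.trans ⟨h.self_cent _, fun ha _ hb => h.setup.comm hb ha⟩

theorem card_normalizer :
    Nat.card (Subgroup.normalizer (A : Set G)) = Nat.card A * Nat.card (act A).range := by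
  rw [← (act A).ker.card_mul_index, Subgroup.index_ker]
  congr 1
  have e : (act A).ker = A.subgroupOf (Subgroup.normalizer (A : Set G)) := by
    ext g
    exact MonoidHom.mem_ker.trans h.act_eq_one_iff
  rw [e]
  exact Nat.card_congr (Subgroup.subgroupOfEquivOfLe Subgroup.le_normalizer).toEquiv

theorem exists_fix {v : A} (hv : v ≠ 1) : ∃ f : (act A).range, f ≠ 1 ∧ (f : MulAut A) v = v := by
  obtain ⟨f, hf, w, hw, hfw⟩ := h.notfree
  obtain ⟨g, hg, he⟩ := h.setup.transitive h.nc w.2 (fun e => hw (Subtype.ext e)) v.2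
    (fun e => hv (Subtype.ext e))
  set k : (act A).range := ⟨act A ⟨g, hg⟩, ⟨g, hg⟩, rfl⟩
  have hk : (k : MulAut A) w = v := Subtype.ext he
  refine ⟨k * f * k⁻¹, fun e => hf (conj_eq_one_iff.mp e), ?_⟩
  show (k : MulAut A) ((f : MulAut A) ((k : MulAut A)⁻¹ v)) = v
  rw [← hk, MulAut.inv_apply_self, hfw]

open scoped IsMulCommutative in
theorem card_stab {v : A} (hv : v ≠ 1) :
    haveI := h.setup.isMulCommutative
    Nat.card (MulAction.stabilizer (act A).range v) = r := by
  haveI := h.setup.isMulCommutative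
  have hdvd := h.card_dvd_of_exp (Z := MulAction.stabilizer (act A).range v) fun z hz hz1 =>
    h.setup.orderOf_eq_of_fix hz1 hv (MulAction.mem_stabilizer_iff.mp hz)
  refine ((Nat.dvd_prime h.setup.hyp.prime).mp hdvd).resolve_left fun e => ?_
  obtain ⟨f, hf, hfv⟩ := h.exists_fix hv
  have : f ∈ MulAction.stabilizer (act A).range v := hfv
  rw [Subgroup.card_eq_one.mp e, Subgroup.mem_bot] at this
  exact hf this

open scoped IsMulCommutative in
theorem card_range : Nat.card (act A).range = (Nat.card A - 1) * r := by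
  classical
  haveI := h.setup.isMulCommutative
  haveI : Finite (MulAut A) := Finite.of_injective (fun e : MulAut A => (e : A → A))
    fun e f he => DFunLike.coe_injective he
  obtain ⟨a, ha, ha1⟩ := h.setup.exists_ne
  have hv : (⟨a, ha⟩ : A) ≠ 1 := fun e => ha1 (congrArg Subtype.val e)
  rw [← Nat.card_congr (MulAction.orbitProdStabilizerEquivGroup (act A).range (⟨a, ha⟩ : A)),
    Nat.card_prod, h.card_stab hv]
  congr 1
  have e : MulAction.orbit (act A).range (⟨a, ha⟩ : A) = {(1 : A)}ᶜ := by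
    ext v
    refine ⟨?_, fun hv' => ?_⟩
    · rintro ⟨f, rfl⟩ e
      exact hv (smul_left_cancel f (by simpa using e))
    · obtain ⟨g, hg, hga⟩ := h.setup.transitive h.nc ha ha1 v.2 (fun e => hv' (Subtype.ext e))
      exact ⟨⟨act A ⟨g, hg⟩, ⟨g, hg⟩, rfl⟩, Subtype.ext hga⟩
  rw [Nat.card_coe_set_eq, e, Set.ncard_compl, Set.ncard_singleton]

theorem cent_le {a : G} (ha : a ∈ A) (h1 : a ≠ 1) :
    Subgroup.centralizer ({a} : Set G) ≤ Subgroup.normalizer (A : Set G) :=
  h.setup.cent_le_normalizer h.nc ha h1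

theorem card_cent {a : G} (ha : a ∈ A) (h1 : a ≠ 1) :
    Nat.card (Subgroup.centralizer ({a} : Set G)) = Nat.card A * r := by
  haveI := h.setup.isMulCommutative
  set N := Subgroup.normalizer (A : Set G)
  let Z := MulAction.stabilizer (act A).range (⟨a, ha⟩ : A)
  have e : Z.comap (act A).rangeRestrict = (Subgroup.centralizer ({a} : Set G)).subgroupOf N := by
    ext g
    rw [Subgroup.mem_comap, Subgroup.mem_subgroupOf, Subgroup.mem_centralizer_singleton_iff,
      MulAction.mem_stabilizer_iff, Subtype.ext_iff]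
    show (g : G) * a * (g : G)⁻¹ = a ↔ _
    exact mul_inv_eq_iff_eq_mul
  have h2 := (Z.comap (act A).rangeRestrict).card_mul_index
  rw [Subgroup.index_comap_of_surjective _ (act A).rangeRestrict_surjective] at h2
  rw [← Nat.card_congr (Subgroup.subgroupOfEquivOfLe (h.cent_le ha h1)).toEquiv, ← e]
  have h3 := Z.card_mul_index
  rw [h.card_stab fun e => h1 (congrArg Subtype.val e)] at h3
  rw [h.card_normalizer, ← h3] at h2
  have h0 : Z.index ≠ 0 := Subgroup.index_ne_zero_of_finite
  exact mul_right_cancel₀ h0 (h2.trans (by ring))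

theorem exists_order_r {a : G} (ha : a ∈ A) (h1 : a ≠ 1) :
    ∃ y : G, orderOf y = r ∧ Commute y a := by
  haveI := Fact.mk h.setup.hyp.prime
  obtain ⟨⟨y, hy⟩, ho⟩ := exists_prime_orderOf_dvd_card'
    (G := Subgroup.centralizer ({a} : Set G)) r (h.card_cent ha h1 ▸ dvd_mul_left r _)
  exact ⟨y, (Subgroup.orderOf_mk ..).symm.trans ho, Subgroup.mem_centralizer_singleton_iff.mp hy⟩

theorem inf_eq_one {x : G} (ho : Odd (orderOf x)) (hx : x ∈ A) : x = 1 := by
  have hd : orderOf x ∣ 2 := orderOf_dvd_of_pow_eq_one (by rw [sq]; exact h.setup.invol hx)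
  rcases (Nat.dvd_prime Nat.prime_two).mp hd with e | e
  · exact orderOf_eq_one_iff.mp e
  · rw [e] at ho
    exact absurd ho (by decide)

/-- An `r`-subgroup of the normaliser has order dividing `r`. -/
theorem card_rgroup_dvd {X : Subgroup G} (hX : IsPGroup r X)
    (hle : X ≤ Subgroup.normalizer (A : Set G)) : Nat.card X ∣ r := by
  let φ : X →* (act A).range := (act A).rangeRestrict.comp (Subgroup.inclusion hle)
  have hXo : ∀ x : X, Odd (orderOf (x : G)) := fun x => by
    obtain ⟨k, hk⟩ := hX x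
    exact h.setup.hyp.rodd.pow.of_dvd_nat
      (orderOf_dvd_of_pow_eq_one (congrArg Subtype.val hk : (x : G) ^ r ^ k = 1))
  have hφ : Function.Injective φ := (injective_iff_map_eq_one φ).mpr fun x hx =>
    Subtype.ext (h.inf_eq_one (hXo x) (h.act_eq_one_iff.mp (congrArg Subtype.val hx)))
  rw [Nat.card_congr (MonoidHom.ofInjective hφ).toEquiv]
  refine h.card_dvd_of_exp fun z hz hz1 => ?_
  obtain ⟨x, rfl⟩ := hz
  obtain ⟨k, hk⟩ := hX x
  rw [orderOf_injective φ hφ, ← Subgroup.orderOf_coe]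
  exact h.setup.hyp.order_of_pow (fun e => hz1 (by rw [show x = 1 from Subtype.ext e, map_one]))
    (congrArg Subtype.val hk)

/-- In the normaliser the normaliser of a subgroup of order `r` centralises it. -/
theorem commute_of_mem {g y : G} (hg : g ∈ Subgroup.normalizer (A : Set G))
    (hy : y ∈ Subgroup.normalizer (A : Set G)) (hyo : orderOf y = r)
    (hgy : g * y * g⁻¹ ∈ Subgroup.zpowers y) : Commute g y := by
  set ρ := (act A).rangeRestrict ⟨y, hy⟩
  set f := (act A).rangeRestrict ⟨g, hg⟩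
  have hρ : orderOf ρ = r := by
    have hd : orderOf ρ ∣ r := (orderOf_map_dvd _ _).trans
      (((Subgroup.orderOf_mk y hy).trans hyo).dvd)
    refine ((Nat.dvd_prime h.setup.hyp.prime).mp hd).resolve_left fun e => ?_
    have h1 : y = 1 := h.inf_eq_one (hyo ▸ h.setup.hyp.rodd)
      (h.act_eq_one_iff.mp (congrArg Subtype.val (orderOf_eq_one_iff.mp e : ρ = 1)))
    rw [h1, orderOf_one] at hyo
    exact h.setup.hyp.prime.ne_one hyo.symm
  obtain ⟨k, hk⟩ := Subgroup.mem_zpowers_iff.mp hgy
  have hn : f * ρ * f⁻¹ ∈ Subgroup.zpowers ρ := by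
    refine ⟨k, ?_⟩
    show ρ ^ k = f * ρ * f⁻¹
    simp only [ρ, f, ← map_zpow, ← map_mul, ← map_inv]
    exact congrArg _ (Subtype.ext hk)
  have hc := h.commute_of_conj hρ hn
  have hA : g * y * g⁻¹ * y⁻¹ ∈ A := by
    have e : f * ρ * f⁻¹ * ρ⁻¹ = 1 := by rw [hc.eq, mul_inv_cancel_right, mul_inv_cancel]
    have e2 : act A (⟨g, hg⟩ * ⟨y, hy⟩ * ⟨g, hg⟩⁻¹ * ⟨y, hy⟩⁻¹) = 1 := by
      rw [map_mul, map_mul, map_mul, map_inv, map_inv]
      exact congrArg Subtype.val e
    exact h.act_eq_one_iff.mp e2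
  have hz : g * y * g⁻¹ * y⁻¹ ∈ Subgroup.zpowers y :=
    mul_mem hgy (inv_mem (Subgroup.mem_zpowers y))
  have hodd : Odd (orderOf (g * y * g⁻¹ * y⁻¹)) :=
    (hyo ▸ h.setup.hyp.rodd).of_dvd_nat (Nat.card_zpowers y ▸ Subgroup.orderOf_dvd_natCard _ hz)
  exact mul_inv_eq_iff_eq_mul.mp (mul_inv_eq_one.mp (h.inf_eq_one hodd hA))

/-- A cyclic self-centralising Sylow subgroup with trivial automiser is impossible. -/
theorem burnside_false {y : G} (hy : orderOf y = r)
    (hC : ∀ Q : Subgroup G, IsPGroup r Q → y ∈ Q → Q ≤ Subgroup.centralizer ({y} : Set G) →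
      Q = Subgroup.zpowers y)
    (hN : Subgroup.normalizer (Subgroup.zpowers y : Set G) ≤ Subgroup.centralizer ({y} : Set G)) :
    False := by
  haveI := Fact.mk h.setup.hyp.prime
  obtain ⟨R, hR⟩ := (IsPGroup.of_card (n := 1) (by rw [Nat.card_zpowers, hy, pow_one]) :
    IsPGroup r (Subgroup.zpowers y)).exists_le_sylow
  have hRy : (R : Subgroup G) = Subgroup.zpowers y := by
    haveI := R.2.isNilpotent
    by_contra hne
    have hlt : (Subgroup.zpowers y).subgroupOf R < ⊤ := lt_top_iff_ne_top.mpr fun e =>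
      hne (le_antisymm (Subgroup.subgroupOf_eq_top.mp e) hR)
    obtain ⟨⟨x, hx⟩, hxN, hxy⟩ := SetLike.exists_of_lt
      (Group.normalizerCondition_of_isNilpotent _ hlt)
    have hxn : x ∈ Subgroup.normalizer (Subgroup.zpowers y : Set G) := by
      refine Subgroup.mem_normalizer_iff.mpr fun z => ⟨fun hz => ?_, fun hz => ?_⟩
      · exact (Subgroup.mem_normalizer_iff.mp hxN ⟨z, hR hz⟩).mp (Subgroup.mem_subgroupOf.mpr hz)
      · have hz' : z ∈ (R : Subgroup G) := by
          have := mul_mem (mul_mem (inv_mem hx) (hR hz)) hx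
          simpa [mul_assoc] using this
        exact (Subgroup.mem_normalizer_iff.mp hxN ⟨z, hz'⟩).mpr (Subgroup.mem_subgroupOf.mpr hz)
    have e := hC ((R : Subgroup G) ⊓ Subgroup.centralizer ({y} : Set G)) (R.2.to_le inf_le_left)
      ⟨hR (Subgroup.mem_zpowers y), Subgroup.mem_centralizer_singleton_iff.mpr rfl⟩ inf_le_right
    exact hxy (Subgroup.mem_subgroupOf.mpr (e ▸ ⟨hx, hN hxn⟩))
  obtain ⟨Q, N, hNn, hc⟩ := Transfer.hasNormalPComplement_of_normalizer_le_centralizer R (by
    intro g hg z hz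
    have hg' : g ∈ Subgroup.normalizer ((R : Subgroup G) : Set G) := hg
    have hz' : z ∈ (R : Subgroup G) := hz
    rw [hRy] at hg' hz'
    obtain ⟨k, rfl⟩ := Subgroup.mem_zpowers_iff.mp hz'
    exact (Commute.zpow_right (show Commute g y from
      Subgroup.mem_centralizer_singleton_iff.mp (hN hg')) k).eq.symm)
  haveI := hNn
  obtain ⟨a, b, hab⟩ := h.nc
  rcases hNn.eq_bot_or_eq_top with e | e
  · subst e
    have hq := Transfer.isPGroup_quotient_of_isComplement' hc
    have hp : IsPGroup r G := hq.of_equiv QuotientGroup.quotientBot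
    haveI := hp.isNilpotent
    exact hab (IsSimpleGroup.comm_iff_isSolvable.mpr inferInstance a b)
  · have hd := Transfer.coprime_card_of_isComplement' hc
    rw [e, Subgroup.card_top] at hd
    exact h.setup.hyp.prime.ne_one (Nat.eq_one_of_dvd_coprimes hd (hy ▸ orderOf_dvd_natCard y)
      dvd_rfl)

/-- An element of order `r` centralises at most one involution of `A`. -/
theorem two_rank {a y b : G} (ha : a ∈ A) (ha1 : a ≠ 1) (hyo : orderOf y = r) (hay : Commute y a)
    (hb : b ∈ A) (hby : Commute y b) : b = 1 ∨ b = a := by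
  classical
  by_contra hcon
  push Not at hcon
  obtain ⟨hb1, hba⟩ := hcon
  haveI : Fact (Nat.Prime 2) := ⟨Nat.prime_two⟩
  haveI := Fact.mk h.setup.hyp.prime
  have S := h.setup
  set H := Subgroup.centralizer ({y} : Set G)
  haveI : Group.IsSolvable H := S.hyp.cent_solvable (Or.inr hyo)
  set X := A ⊓ H
  have haX : a ∈ X := ⟨ha, Subgroup.mem_centralizer_singleton_iff.mpr hay.eq.symm⟩
  have hbX : b ∈ X := ⟨hb, Subgroup.mem_centralizer_singleton_iff.mpr hby.eq.symm⟩
  have hXc : ∀ c ∈ X, ∀ d ∈ X, c * d = d * c := fun c hc d hd => S.comm hc.1 hd.1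
  haveI : IsMulCommutative X := .of_comm fun c d => Subtype.ext (hXc c c.2 d d.2)
  have hX2 : IsPGroup 2 X := S.two.to_le inf_le_left
  have hyN : y ∈ Subgroup.normalizer (A : Set G) :=
    h.cent_le ha ha1 (Subgroup.mem_centralizer_singleton_iff.mpr hay.eq)
  -- `X` is a Sylow subgroup of the centraliser
  obtain ⟨P, hP⟩ := (hX2.comap_subtype (K := H)).exists_le_sylow
  have hPX : (P : Subgroup H) = X.subgroupOf H := by
    refine le_antisymm (fun x hx => ?_) hP
    have hP' : IsPGroup 2 ((P : Subgroup H).map H.subtype) := P.2.map _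
    have ha' : a ∈ (P : Subgroup H).map H.subtype :=
      ⟨⟨a, haX.2⟩, hP (Subgroup.mem_subgroupOf.mpr haX), rfl⟩
    have hx' : (x : G) ∈ (P : Subgroup H).map H.subtype := ⟨x, hx, rfl⟩
    have hxx := S.hyp.mul_self_of_two hP' hx'
    have hca : Commute (x : G) a := by
      have e1 := S.hyp.mul_self_of_two hP' (mul_mem hx' ha')
      calc (x : G) * a = ((x : G) * a)⁻¹ := (inv_eq_of_mul_eq_one_right e1).symm
        _ = a * x := by
          rw [mul_inv_rev, inv_eq_of_mul_eq_one_right (S.invol ha), inv_eq_of_mul_eq_one_right hxx]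
    refine Subgroup.mem_subgroupOf.mpr ⟨S.two_mem (h.cent_le ha ha1
      (Subgroup.mem_centralizer_singleton_iff.mpr hca.eq)) hxx, x.2⟩
  have hPc : IsMulCommutative (P : Subgroup H) := .of_comm fun c d => Subtype.ext (Subtype.ext
    (hXc (c : H) (Subgroup.mem_subgroupOf.mp (hPX.le c.2)) (d : H)
      (Subgroup.mem_subgroupOf.mp (hPX.le d.2))))
  set O := coreIn H
  have hyO : y ∈ O := by
    refine ⟨⟨y, Subgroup.mem_centralizer_singleton_iff.mpr rfl⟩,
      le_odd_core P hPc (X := (Subgroup.zpowers y).subgroupOf H) (fun x _ => ?_) ?_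
        (Subgroup.mem_subgroupOf.mpr (Subgroup.mem_zpowers y)), rfl⟩
    · refine Subgroup.centralizer_le_normalizer _ fun z hz => Subtype.ext ?_
      obtain ⟨k, hk⟩ := Subgroup.mem_zpowers_iff.mp (Subgroup.mem_subgroupOf.mp hz)
      show (z : G) * x = x * z
      rw [← hk]
      exact ((show Commute (x : G) y from
        Subgroup.mem_centralizer_singleton_iff.mp x.2).zpow_right k).eq.symm
    · rw [Nat.card_congr (Subgroup.subgroupOfEquivOfLe (Subgroup.zpowers_le.mpr
        (show y ∈ H from Subgroup.mem_centralizer_singleton_iff.mpr rfl))).toEquiv, Nat.card_zpowers,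
        hyo]
      exact S.hyp.rodd
  have hOy : O ≤ Subgroup.zpowers y := by
    refine Coprime.le_of_centralizer_le (A := X) ?_
      (inf_le_right.trans (OneComposite.le_normalizer_coreIn H)) ?_ fun e he he1 => ?_
    · intro hc
      have hexp : Monoid.exponent X ∣ 2 := Monoid.exponent_dvd_of_forall_pow_eq_one fun c =>
        Subtype.ext (by rw [Subgroup.coe_pow, sq]; exact S.invol c.2.1)
      haveI := hc
      rw [IsCyclic.exponent_eq_card] at hexp
      have h2 := Nat.le_of_dvd two_pos hexp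
      have hsub : ({1, a, b} : Set G) ⊆ (X : Set G) := by
        rintro x (rfl | rfl | rfl)
        exacts [one_mem X, haX, hbX]
      have h3 := Set.ncard_le_ncard hsub (Set.toFinite _)
      rw [Set.ncard_eq_three.mpr ⟨1, a, b, Ne.symm ha1, Ne.symm hb1, Ne.symm hba, rfl⟩,
        ← Nat.card_coe_set_eq] at h3
      change 3 ≤ Nat.card X at h3
      omega
    · obtain ⟨k, hk⟩ := IsPGroup.iff_card.mp hX2
      rw [hk]
      exact (Nat.coprime_two_left.mpr (coreIn_odd H)).pow_left k
    · have hye : y ∈ O ⊓ Subgroup.centralizer ({e} : Set G) := ⟨hyO,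
        Subgroup.mem_centralizer_singleton_iff.mpr
          (Subgroup.mem_centralizer_singleton_iff.mp he.2).symm⟩
      have hd : IsPGroup r (O ⊓ Subgroup.centralizer ({e} : Set G) : Subgroup G) :=
        (S.hyp.pgroup_of_odd (Or.inr hyo) (coreIn_odd H) (coreIn_le H)).to_le inf_le_left
      refine (Subgroup.eq_of_le_of_card_ge (Subgroup.zpowers_le.mpr hye) ?_).ge
      rw [Nat.card_zpowers, hyo]
      exact Nat.le_of_dvd S.hyp.prime.pos
        (h.card_rgroup_dvd hd (inf_le_right.trans (h.cent_le he.1 he1)))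
  have hn := Cfsg.Agent.S0018.result 2 P hPc
  have hinv : ∀ c ∈ H, c * c = 1 → c ∈ A := by
    intro c hc hcc
    have hcp : IsPGroup 2 (Subgroup.zpowers (⟨c, hc⟩ : H)) := Transfer.isPGroup_zpowers
      ⟨_, Nat.eq_prime_pow_of_unique_prime_dvd (orderOf_pos _).ne' fun {d} hd hdd =>
        (Nat.prime_dvd_prime_iff_eq hd Nat.prime_two).mp (hdd.trans
          (orderOf_dvd_of_pow_eq_one (Subtype.ext (by rw [Subgroup.coe_pow, sq]; exact hcc))))⟩
    obtain ⟨R, hR⟩ := hcp.exists_le_sylow
    obtain ⟨k, hk⟩ := MulAction.exists_smul_eq H R P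
    have h1 : k * ⟨c, hc⟩ * k⁻¹ ∈ (P : Subgroup H) := by
      rw [← hk, Sylow.coe_subgroup_smul, Subgroup.pointwise_smul_def]
      exact ⟨⟨c, hc⟩, hR (Subgroup.mem_zpowers _), rfl⟩
    have h2 := hn.conj_mem _ (Subgroup.mem_sup_left (T := Cfsg.pPrimeCore 2 H) h1) k⁻¹
    rw [show k⁻¹ * (k * ⟨c, hc⟩ * k⁻¹) * k⁻¹⁻¹ = (⟨c, hc⟩ : H) by group] at h2
    haveI := Transfer.pPrimeCore_normal 2 H
    rw [← SetLike.mem_coe, Subgroup.mul_normal, Set.mem_mul] at h2
    obtain ⟨e, he, w, hw, hew⟩ := h2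
    have hew' : (e : G) * (w : G) = c := congrArg Subtype.val hew
    have heA : (e : G) ∈ A := (Subgroup.mem_subgroupOf.mp (hPX.le he)).1
    obtain ⟨j, hj⟩ := Subgroup.mem_zpowers_iff.mp (hOy ⟨w, hw, rfl⟩)
    have hcw : Commute (e : G) (w : G) := by
      show Commute (e : G) (H.subtype w)
      rw [← hj]
      exact (show Commute (e : G) y from Subgroup.mem_centralizer_singleton_iff.mp e.2).zpow_right j
    have hw2 : (w : G) * w = 1 := by
      rw [← hew', hcw.symm.mul_mul_mul_comm, S.invol heA, one_mul] at hcc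
      exact hcc
    have hw1 : (w : G) = 1 := by
      refine orderOf_eq_one_iff.mp (Nat.eq_one_of_dvd_coprimes
        (Nat.coprime_two_left.mpr (coreIn_odd H)) (orderOf_dvd_of_pow_eq_one (by rwa [sq]))
        (Subgroup.orderOf_dvd_natCard _ ⟨w, hw, rfl⟩))
    rw [← hew', hw1, mul_one]
    exact heA
  have hNy : Subgroup.normalizer (Subgroup.zpowers y : Set G) ≤ H := by
    intro g hg
    have hgy : g * y * g⁻¹ ∈ Subgroup.zpowers y :=
      (Subgroup.mem_normalizer_iff.mp hg y).mp (Subgroup.mem_zpowers y)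
    have hgH : g * a * g⁻¹ ∈ H := by
      refine Subgroup.mem_centralizer_singleton_iff.mpr ?_
      have h1 : g⁻¹ * y * g ∈ Subgroup.zpowers y := by
        simpa using (Subgroup.mem_normalizer_iff.mp (inv_mem hg) y).mp (Subgroup.mem_zpowers y)
      obtain ⟨k, hk⟩ := Subgroup.mem_zpowers_iff.mp h1
      have h2 : Commute (g⁻¹ * y * g) a := hk ▸ hay.zpow_left k
      calc g * a * g⁻¹ * y = g * (a * (g⁻¹ * y * g)) * g⁻¹ := by group
        _ = g * ((g⁻¹ * y * g) * a) * g⁻¹ := by rw [h2.eq]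
        _ = y * (g * a * g⁻¹) := by group
    have hgA : g * a * g⁻¹ ∈ A := hinv _ hgH (by
      rw [show g * a * g⁻¹ * (g * a * g⁻¹) = g * (a * a) * g⁻¹ by group, S.invol ha, mul_one,
        mul_inv_cancel])
    have hgN := Invol.strongly_mem_of_conj_mem (S.strongly h.nc) (S.orderOf_invol ha ha1)
      (Subgroup.le_normalizer ha) (Subgroup.le_normalizer hgA)
    exact Subgroup.mem_centralizer_singleton_iff.mpr (h.commute_of_mem hgN hyN hyo hgy).eq
  refine h.burnside_false hyo (fun Q hQ hyQ hQH => ?_) hNy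
  have hQN : Q ≤ Subgroup.normalizer (A : Set G) := fun g hg => by
    have hgH := hQH hg
    have hgA : g * a * g⁻¹ ∈ A := hinv _ (mul_mem (mul_mem hgH haX.2) (inv_mem hgH)) (by
      rw [show g * a * g⁻¹ * (g * a * g⁻¹) = g * (a * a) * g⁻¹ by group, S.invol ha, mul_one,
        mul_inv_cancel])
    exact Invol.strongly_mem_of_conj_mem (S.strongly h.nc) (S.orderOf_invol ha ha1)
      (Subgroup.le_normalizer ha) (Subgroup.le_normalizer hgA)
  refine (Subgroup.eq_of_le_of_card_ge (Subgroup.zpowers_le.mpr hyQ) ?_).symm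
  rw [Nat.card_zpowers, hyo]
  exact Nat.le_of_dvd S.hyp.prime.pos (h.card_rgroup_dvd hQ hQN)

/-- `|A|` is congruent to two modulo `r`. -/
theorem card_mod : Nat.card A ≡ 2 [MOD r] := by
  classical
  haveI := Fact.mk h.setup.hyp.prime
  obtain ⟨a, ha, ha1⟩ := h.setup.exists_ne
  obtain ⟨y, hy, hya⟩ := h.exists_order_r ha ha1
  have hyN : y ∈ Subgroup.normalizer (A : Set G) :=
    h.cent_le ha ha1 (Subgroup.mem_centralizer_singleton_iff.mpr hya.eq)
  set P := Subgroup.zpowers ((act A).rangeRestrict ⟨y, hyN⟩)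
  have hP : IsPGroup r P := Transfer.isPGroup_zpowers (by
    obtain ⟨i, -, hi⟩ := (Nat.dvd_prime_pow h.setup.hyp.prime (m := 1)).mp
      ((orderOf_map_dvd (act A).rangeRestrict ⟨y, hyN⟩).trans
        (by rw [Subgroup.orderOf_mk, hy, pow_one]))
    exact ⟨i, hi⟩)
  haveI : Finite (MulAut A) := Finite.of_injective (fun e : MulAut A => (e : A → A))
    fun e f he => DFunLike.coe_injective he
  refine (hP.card_modEq_card_fixedPoints A).trans ?_
  have hfix : MulAction.fixedPoints P A = {(1 : A), ⟨a, ha⟩} := by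
    ext v
    constructor
    · intro hv
      have h1 := congrArg Subtype.val (hv ⟨_, Subgroup.mem_zpowers _⟩)
      change y * v * y⁻¹ = (v : G) at h1
      rcases h.two_rank ha ha1 hy hya v.2 (mul_inv_eq_iff_eq_mul.mp h1) with e | e
      · exact Or.inl (Subtype.ext e)
      · exact Or.inr (Subtype.ext e)
    · intro hv z
      obtain ⟨k, hk⟩ := Subgroup.mem_zpowers_iff.mp z.2
      have hg : (act A).rangeRestrict ⟨y, hyN⟩ ∈ MulAction.stabilizer (act A).range v := by
        rcases hv with rfl | rfl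
        · exact map_one _
        · exact Subtype.ext (show y * a * y⁻¹ = a by rw [hya.eq, mul_inv_cancel_right])
      have := zpow_mem hg k
      rw [hk] at this
      exact this
  rw [Nat.card_coe_set_eq, hfix, Set.ncard_pair fun e => ha1 (congrArg Subtype.val e).symm]

end Frob

end CfsgLib.TwoQList
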