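import Mathlib
import Cfsg.Agent.Lib.TwoQList.FrobCent
import Cfsg.Agent.Lib.Hall.Basic

/-!
Odd subgroups of the normaliser in the non-free case.
-/

set_option autoImplicit false
set_option linter.style.haveILetI false
set_option linter.unusedSectionVars false

namespace CfsgLib.TwoQList.Frob

variable {G : Type*} [Group G] [Finite G] {r : ℕ} {A : Subgroup G}
variable (h : Frob G r A) [IsSimpleGroup G]
include h

theorem not_dvd_u : ¬ r ∣ Nat.card A - 1 := by
  intro hd
  have h1 : Nat.card A ≡ 1 [MOD r] := ((Nat.modEq_iff_dvd' Nat.card_pos).mpr hd).symm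
  have h2 := (Nat.modEq_iff_dvd' (show 1 ≤ 2 by norm_num)).mp (h1.symm.trans h.card_mod)
  exact h.setup.hyp.prime.ne_one (Nat.dvd_one.mp h2)

theorem coprime_u : r.Coprime (Nat.card A - 1) :=
  h.setup.hyp.prime.coprime_iff_not_dvd.mpr h.not_dvd_u

theorem odd_u : Odd (Nat.card A - 1) := by
  haveI : Fact (Nat.Prime 2) := ⟨Nat.prime_two⟩
  obtain ⟨n, hn⟩ := IsPGroup.iff_card.mp h.setup.two
  have := h.setup.big
  rcases n with _ | n
  · omega
  rw [hn, Nat.odd_iff]
  have : 0 < 2 ^ n := Nat.two_pow_pos n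
  rw [pow_succ]
  omega

theorem map_order {y : G} (hy : y ∈ Subgroup.normalizer (A : Set G)) (hyo : orderOf y = r) :
    orderOf ((act A).rangeRestrict ⟨y, hy⟩) = r := by
  refine ((Nat.dvd_prime h.setup.hyp.prime).mp ((orderOf_map_dvd _ _).trans
    ((Subgroup.orderOf_mk y hy).trans hyo).dvd)).resolve_left fun e => ?_
  have h1 : y = 1 := h.inf_eq_one (hyo ▸ h.setup.hyp.rodd)
    (h.act_eq_one_iff.mp (congrArg Subtype.val (orderOf_eq_one_iff.mp e)))
  rw [h1, orderOf_one] at hyo
  exact h.setup.hyp.prime.ne_one hyo.symm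

/-- The normal `r`-complement of the automiser. -/
theorem exists_K0 : ∃ K0 : Subgroup (act A).range, Nat.card K0 = Nat.card A - 1 ∧
    ∀ f, f ^ (Nat.card A - 1) = 1 ↔ f ∈ K0 := by
  haveI := Fact.mk h.setup.hyp.prime
  haveI : Finite (MulAut A) := Finite.of_injective (fun e : MulAut A => (e : A → A))
    fun e f he => DFunLike.coe_injective he
  obtain ⟨a, ha, ha1⟩ := h.setup.exists_ne
  obtain ⟨y, hy, hya⟩ := h.exists_order_r ha ha1
  set ρ := (act A).rangeRestrict
    ⟨y, h.cent_le ha ha1 (Subgroup.mem_centralizer_singleton_iff.mpr hya.eq)⟩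
  have hρ : orderOf ρ = r := h.map_order _ hy
  have hidx : (Subgroup.zpowers ρ).index = Nat.card A - 1 := by
    have := (Subgroup.zpowers ρ).card_mul_index
    rw [Nat.card_zpowers, hρ, h.card_range, mul_comm (Nat.card A - 1)] at this
    exact Nat.eq_of_mul_eq_mul_left h.setup.hyp.prime.pos this
  let R : Sylow r (act A).range :=
    (Transfer.isPGroup_zpowers ⟨1, by rw [pow_one, hρ]⟩).toSylow (hidx ▸ h.not_dvd_u)
  obtain ⟨Q, K0, hK0, hc⟩ := Transfer.hasNormalPComplement_of_normalizer_le_centralizer R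
    fun f hf z hz => by
      obtain ⟨k, rfl⟩ := Subgroup.mem_zpowers_iff.mp (show z ∈ Subgroup.zpowers ρ from hz)
      exact ((h.commute_of_conj hρ ((Subgroup.mem_normalizer_iff.mp hf ρ).mp
        (Subgroup.mem_zpowers ρ))).zpow_right k).eq.symm
  haveI := hK0
  have hQ : Nat.card Q = r := by
    rw [Nat.card_congr (Q.equiv R).toEquiv]
    exact (Nat.card_zpowers ρ).trans hρ
  have hcard : Nat.card K0 = Nat.card A - 1 := by
    have := hc.card_mul
    rw [hQ, h.card_range] at this
    exact Nat.eq_of_mul_eq_mul_right h.setup.hyp.prime.pos this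
  refine ⟨K0, hcard, fun f => ⟨fun hf => ?_, fun hf => ?_⟩⟩
  · have h1 := K0.pow_index_mem f
    rw [hc.symm.index_eq_card, hQ] at h1
    obtain ⟨m, hm⟩ := exists_pow_eq_self_of_coprime (x := f) (n := r)
      (h.coprime_u.coprime_dvd_right (orderOf_dvd_of_pow_eq_one hf))
    exact hm ▸ pow_mem h1 m
  · exact orderOf_dvd_iff_pow_eq_one.mp (hcard ▸ Subgroup.orderOf_dvd_natCard K0 hf)

/-- The part of exponent dividing `|A| - 1` of an odd subgroup of the normaliser. -/
theorem exists_part {X : Subgroup G} (hX : X ≤ Subgroup.normalizer (A : Set G))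
    (hodd : Odd (Nat.card X)) : ∃ X0 : Subgroup G,
      (∀ x, x ∈ X0 ↔ x ∈ X ∧ x ^ (Nat.card A - 1) = 1) ∧ Nat.card X0 ≤ Nat.card A - 1 ∧
        (Nat.card A - 1 ∣ Nat.card X → Nat.card X0 = Nat.card A - 1) := by
  haveI : Finite (MulAut A) := Finite.of_injective (fun e : MulAut A => (e : A → A))
    fun e f he => DFunLike.coe_injective he
  obtain ⟨K0, hK0, hiff⟩ := h.exists_K0
  let φ : X →* (act A).range := (act A).rangeRestrict.comp (Subgroup.inclusion hX)
  have hφ : Function.Injective φ := (injective_iff_map_eq_one φ).mpr fun x hx =>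
    Subtype.ext (h.inf_eq_one (hodd.of_dvd_nat (Subgroup.orderOf_dvd_natCard X x.2))
      (h.act_eq_one_iff.mp (congrArg Subtype.val hx)))
  refine ⟨(K0.comap φ).map X.subtype, fun x => ⟨?_, fun hx => ⟨⟨x, hx.1⟩, ?_, rfl⟩⟩, ?_, ?_⟩
  · rintro ⟨z, hz, rfl⟩
    refine ⟨z.2, ?_⟩
    have h1 : φ (z ^ (Nat.card A - 1)) = 1 := by rw [map_pow]; exact (hiff _).mpr hz
    exact congrArg Subtype.val (hφ (h1.trans (map_one φ).symm))
  · refine (hiff _).mp ?_
    rw [← map_pow, ← map_one φ]
    exact congrArg φ (Subtype.ext hx.2)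
  all_goals rw [Subgroup.card_map_of_injective X.subtype_injective]
  · exact (Nat.le_of_dvd Nat.card_pos (Subgroup.card_comap_dvd_of_injective K0 φ hφ)).trans hK0.le
  · intro hd
    refine Nat.dvd_antisymm (hK0 ▸ Subgroup.card_comap_dvd_of_injective K0 φ hφ) ?_
    have h1 : (K0.comap φ).index ∣ r := by
      rw [Subgroup.index_comap]
      haveI : K0.Normal := ⟨fun f hf g => (hiff _).mp (by rw [conj_pow, (hiff f).mpr hf, mul_one,
        mul_inv_cancel])⟩
      refine (Subgroup.relIndex_dvd_index_of_normal K0 φ.range).trans ?_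
      have := K0.card_mul_index
      rw [hK0, h.card_range] at this
      exact (Nat.eq_of_mul_eq_mul_left (by have := h.setup.big; omega) this).dvd
    rw [← (K0.comap φ).card_mul_index] at hd
    exact (Nat.Coprime.coprime_dvd_right h1 h.coprime_u.symm).dvd_of_dvd_mul_right hd

/-- Two subgroups of order `|A| - 1` in an odd subgroup of the normaliser are equal. -/
theorem sub_unique {X F₁ F₂ : Subgroup G} (hX : X ≤ Subgroup.normalizer (A : Set G))
    (hodd : Odd (Nat.card X)) (h1 : F₁ ≤ X) (h2 : F₂ ≤ X)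
    (c1 : Nat.card F₁ = Nat.card A - 1) (c2 : Nat.card F₂ = Nat.card A - 1) : F₁ = F₂ := by
  obtain ⟨X0, hiff, hle, -⟩ := h.exists_part hX hodd
  have key : ∀ F : Subgroup G, F ≤ X → Nat.card F = Nat.card A - 1 → F = X0 := fun F hF hc =>
    Subgroup.eq_of_le_of_card_ge (fun x hx => (hiff x).mpr ⟨hF hx,
      orderOf_dvd_iff_pow_eq_one.mp (hc ▸ Subgroup.orderOf_dvd_natCard F hx)⟩) (hc ▸ hle)
  rw [key F₁ h1 c1, key F₂ h2 c2]

open scoped IsMulCommutative in
/-- An outside involution normalises a subgroup of order `|A| - 1` of the normaliser. -/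
theorem exists_D0 {t : G} (ht : orderOf t = 2) (htN : t ∉ Subgroup.normalizer (A : Set G)) :
    ∃ F : Subgroup G, F ≤ Subgroup.normalizer (A : Set G) ∧ Nat.card F = Nat.card A - 1 ∧
      t ∈ Subgroup.normalizer (F : Set G) := by
  classical
  haveI := h.setup.isMulCommutative
  haveI : Finite (MulAut A) := Finite.of_injective (fun e : MulAut A => (e : A → A))
    fun e f he => DFunLike.coe_injective he
  set N := Subgroup.normalizer (A : Set G)
  have hS := h.setup.strongly h.nc
  set D := N ⊓ N.map (MulAut.conj t).toMonoidHom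
  have hDodd : Odd (Nat.card D) := hS.2.2 t htN
  let φ : D →* (act A).range := (act A).rangeRestrict.comp (Subgroup.inclusion inf_le_left)
  have hφ : Function.Injective φ := (injective_iff_map_eq_one φ).mpr fun x hx =>
    Subtype.ext (h.inf_eq_one (hDodd.of_dvd_nat (Subgroup.orderOf_dvd_natCard D x.2))
      (h.act_eq_one_iff.mp (congrArg Subtype.val hx)))
  obtain ⟨a, ha, ha1⟩ := h.setup.exists_ne
  have hv : (⟨a, ha⟩ : A) ≠ 1 := fun e => ha1 (congrArg Subtype.val e)
  have horb : MulAction.orbit φ.range (⟨a, ha⟩ : A) = {(1 : A)}ᶜ := by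
    ext v
    refine ⟨?_, fun hv' => ?_⟩
    · rintro ⟨f, rfl⟩ e
      exact hv (smul_left_cancel f (by simpa using e))
    · obtain ⟨d, hd, he⟩ := Invol.strongly_inter_transitive hS ht htN
        (h.setup.orderOf_invol ha ha1) (Subgroup.le_normalizer ha)
        (h.setup.orderOf_invol v.2 fun e => hv' (Subtype.ext e)) (Subgroup.le_normalizer v.2)
      exact ⟨⟨φ ⟨d, hd⟩, ⟨d, hd⟩, rfl⟩, Subtype.ext he⟩
  have hdvd : Nat.card A - 1 ∣ Nat.card D := by
    rw [Nat.card_congr (MonoidHom.ofInjective hφ).toEquiv,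
      ← Nat.card_congr (MulAction.orbitProdStabilizerEquivGroup φ.range (⟨a, ha⟩ : A)), Nat.card_prod,
      Nat.card_coe_set_eq, horb, Set.ncard_compl, Set.ncard_singleton]
    exact dvd_mul_right _ _
  obtain ⟨F, hiff, -, hcard⟩ := h.exists_part (inf_le_left : D ≤ N) hDodd
  refine ⟨F, fun x hx => ((hiff x).mp hx).1.1, hcard hdvd, ?_⟩
  have hti : t⁻¹ = t := Invol.inv_of_orderOf_two ht
  have key : ∀ x ∈ F, t * x * t⁻¹ ∈ F := by
    intro x hx
    obtain ⟨⟨hxN, z, hz, hze⟩, hxu⟩ := (hiff x).mp hx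
    refine (hiff _).mpr ⟨⟨?_, x, hxN, rfl⟩, by rw [conj_pow, hxu, mul_one, mul_inv_cancel]⟩
    rw [← hze]
    show t * (t * z * t⁻¹) * t⁻¹ ∈ N
    rw [hti, show t * (t * z * t) * t = (t * t) * z * (t * t) by group,
      Invol.mul_self_of_orderOf_two ht, one_mul, mul_one]
    exact hz
  refine Subgroup.mem_normalizer_iff.mpr fun x => ⟨key x, fun hx => ?_⟩
  have := key _ hx
  rwa [hti, show t * (t * x * t) * t = (t * t) * x * (t * t) by group,
    Invol.mul_self_of_orderOf_two ht, one_mul, mul_one] at this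

/-- The subgroups of order `|A| - 1` of the normaliser are conjugate under `A`. -/
theorem conj_into {F X : Subgroup G} (hF : F ≤ Subgroup.normalizer (A : Set G))
    (hFc : Nat.card F = Nat.card A - 1) (hX : X ≤ Subgroup.normalizer (A : Set G))
    (hXc : Nat.card X = Nat.card A - 1) :
    ∃ b ∈ A, X = F.map (MulAut.conj b).toMonoidHom := by
  haveI : Finite (MulAut A) := Finite.of_injective (fun e : MulAut A => (e : A → A))
    fun e f he => DFunLike.coe_injective he
  haveI : Fact (Nat.Prime 2) := ⟨Nat.prime_two⟩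
  set N := Subgroup.normalizer (A : Set G)
  obtain ⟨K0, hK0, hiff⟩ := h.exists_K0
  have hFo : ∀ x ∈ F, Odd (orderOf x) := fun x hx =>
    h.odd_u.of_dvd_nat (hFc ▸ Subgroup.orderOf_dvd_natCard F hx)
  have hpow : ∀ (Y : Subgroup G), Nat.card Y = Nat.card A - 1 → ∀ x (hx : x ∈ N), x ∈ Y →
      (act A).rangeRestrict ⟨x, hx⟩ ∈ K0 := fun Y hY x hx hxY => (hiff _).mp (by
    rw [← map_pow, ← map_one (act A).rangeRestrict]
    exact congrArg _ (Subtype.ext (orderOf_dvd_iff_pow_eq_one.mp
      (hY ▸ Subgroup.orderOf_dvd_natCard Y hxY))))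
  let φ : F →* K0 := ((act A).rangeRestrict.comp (Subgroup.inclusion hF)).codRestrict K0
    fun x => hpow F hFc x (hF x.2) x.2
  have hφ : Function.Bijective φ := by
    have hinj : Function.Injective φ := (injective_iff_map_eq_one φ).mpr fun x hx =>
      Subtype.ext (h.inf_eq_one (hFo x x.2)
        (h.act_eq_one_iff.mp (congrArg (fun z : K0 => ((z : (act A).range) : MulAut A)) hx)))
    exact hinj.bijective_of_nat_card_le (by rw [hFc, hK0])
  haveI : (A.subgroupOf N).Normal := Subgroup.normal_in_normalizer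
  have hcA : Nat.card (A.subgroupOf N) = Nat.card A :=
    Nat.card_congr (Subgroup.subgroupOfEquivOfLe Subgroup.le_normalizer).toEquiv
  have hcF : Nat.card (F.subgroupOf N) = Nat.card A - 1 :=
    (Nat.card_congr (Subgroup.subgroupOfEquivOfLe hF).toEquiv).trans hFc
  have hcX : Nat.card (X.subgroupOf N) = Nat.card A - 1 :=
    (Nat.card_congr (Subgroup.subgroupOfEquivOfLe hX).toEquiv).trans hXc
  have hco : (Nat.card A).Coprime (Nat.card A - 1) := by
    obtain ⟨n, hn⟩ := IsPGroup.iff_card.mp h.setup.two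
    rw [hn]
    exact (Nat.coprime_two_left.mpr (hn ▸ h.odd_u)).pow_left n
  have hsol : Group.IsSolvable (A.subgroupOf N) :=
    Group.isSolvable_of_comm fun c d => Subtype.ext (Subtype.ext (h.setup.comm c.2 d.2))
  obtain ⟨⟨b, hbN⟩, hb, hle⟩ := Hall.exists_conj_le_of_complement (N := A.subgroupOf N)
    (H := F.subgroupOf N) (K := X.subgroupOf N) hsol (by rwa [hcA, hcF]) (by rwa [hcA, hcX])
    (fun x hx => by
      obtain ⟨f, hf⟩ := hφ.2 ⟨_, hpow X hXc x x.2 (Subgroup.mem_subgroupOf.mp hx)⟩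
      set f' : N := ⟨f, hF f.2⟩
      have e : act A (x * f'⁻¹) = 1 := by
        have := congrArg (fun z : K0 => ((z : (act A).range) : MulAut A)) hf
        change act A f' = act A x at this
        rw [map_mul, map_inv, this, mul_inv_cancel]
      rw [show x = x * f'⁻¹ * f' by group]
      exact mul_mem (Subgroup.mem_sup_left (h.act_eq_one_iff.mp e)) (Subgroup.mem_sup_right f.2))
  refine ⟨b, Subgroup.mem_subgroupOf.mp hb, Subgroup.eq_of_le_of_card_ge (fun x hx => ?_) ?_⟩
  · obtain ⟨f, hf, hfe⟩ := Subgroup.mem_map.mp (show (⟨x, hX hx⟩ : N) ∈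
      (F.subgroupOf N).map (MulAut.conj (⟨b, hbN⟩ : N)).toMonoidHom from hle hx)
    exact ⟨f, hf, congrArg Subtype.val hfe⟩
  · rw [Subgroup.card_map_of_injective (MulAut.conj b).injective, hFc, hXc]

end CfsgLib.TwoQList.Frob
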