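import Mathlib
import Cfsg.Agent.Lib.TwoQList.FrobHall
import Cfsg.Agent.Lib.OneComposite.KleinFree

/-!
The order of the group in the non-free case.
-/

set_option autoImplicit false
set_option linter.style.haveILetI false
set_option linter.unusedSectionVars false

namespace CfsgLib.TwoQList.Frob

open CfsgLib.OneComposite (inverts_of_free)

variable {G : Type*} [Group G] [Finite G] {r : ℕ} {A : Subgroup G}
variable (h : Frob G r A) [IsSimpleGroup G]
include h

/-- An order prime to `2r`. -/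
theorem coprime_of_pow {x : G} (hx : x ^ (Nat.card A - 1) = 1) :
    Odd (orderOf x) ∧ ¬ r ∣ orderOf x :=
  ⟨h.odd_u.of_dvd_nat (orderOf_dvd_of_pow_eq_one hx),
    fun hd => h.not_dvd_u (hd.trans (orderOf_dvd_of_pow_eq_one hx))⟩

theorem eq_one_of_commute_invol {t g : G} (ht : orderOf t = 2) (hc : Commute g t)
    (hg : Odd (orderOf g) ∧ ¬ r ∣ orderOf g) : g = 1 := by
  by_contra h1
  exact hg.2 (h.setup.hyp.odd_cent ht hc hg.1 h1).symm.dvd

theorem coprime_cent {x g : G} (hx : Odd (orderOf x) ∧ ¬ r ∣ orderOf x) (hx1 : x ≠ 1)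
    (hc : Commute g x) : Odd (orderOf g) ∧ ¬ r ∣ orderOf g := by
  refine ⟨Nat.not_even_iff_odd.mp fun he => hx1 ?_, fun hd => ?_⟩
  · exact h.eq_one_of_commute_invol (t := g ^ (orderOf g / 2))
      (orderOf_pow_orderOf_div (orderOf_pos g).ne' (even_iff_two_dvd.mp he))
      (hc.symm.pow_right _) hx
  · set g' := g ^ (orderOf g / r)
    have ho : orderOf g' = r := orderOf_pow_orderOf_div (orderOf_pos g).ne' hd
    have e : orderOf (g' * x) = r * orderOf x := by
      rw [(hc.pow_left _).orderOf_mul_eq_mul_orderOf_of_coprime, ho]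
      rw [ho]
      exact h.setup.hyp.prime.coprime_iff_not_dvd.mpr hx.2
    rcases h.setup.hyp.rpart _ (e ▸ dvd_mul_right r _) with e' | e' <;> rw [e] at e'
    · exact hx1 (orderOf_eq_one_iff.mp ((Nat.mul_eq_left h.setup.hyp.prime.ne_zero).mp e'))
    · have h2 : orderOf x = 2 :=
        Nat.eq_of_mul_eq_mul_left h.setup.hyp.prime.pos (e'.trans (mul_comm 2 r))
      exact absurd (h2 ▸ hx.1) (by decide)

theorem card_cent_invol {t : G} (ht : orderOf t = 2) :
    Nat.card (Subgroup.centralizer ({t} : Set G)) = Nat.card A * r := by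
  obtain ⟨a, ha, ha1⟩ := h.setup.exists_ne
  obtain ⟨g, hg⟩ := isConj_iff.mp
    (Invol.strongly_isConj (h.setup.strongly h.nc) (h.setup.orderOf_invol ha ha1) ht)
  rw [← h.card_cent ha ha1, ← hg]
  refine (Nat.card_congr (((MulAut.conj g).subgroupMap _).toEquiv.trans
    (MulEquiv.subgroupCongr ?_).toEquiv)).symm
  ext x
  simp only [Subgroup.mem_map, Subgroup.mem_centralizer_singleton_iff, MulEquiv.coe_toMonoidHom,
    MulAut.conj_apply]
  constructor
  · rintro ⟨z, hz, rfl⟩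
    show g * z * g⁻¹ * (g * a * g⁻¹) = g * a * g⁻¹ * (g * z * g⁻¹)
    rw [show g * z * g⁻¹ * (g * a * g⁻¹) = g * (z * a) * g⁻¹ by group, hz]
    group
  · intro hx
    refine ⟨g⁻¹ * x * g, ?_, by show g * _ * g⁻¹ = x; group⟩
    calc g⁻¹ * x * g * a = g⁻¹ * (x * (g * a * g⁻¹)) * g := by group
      _ = g⁻¹ * (g * a * g⁻¹ * x) * g := by rw [hx]
      _ = a * (g⁻¹ * x * g) := by group

/-- The order of the group. -/
theorem exists_count : ∃ (F : Subgroup G) (y a : G),
    F ≤ Subgroup.normalizer (A : Set G) ∧ Nat.card F = Nat.card A - 1 ∧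
    (∀ x ∈ F, ∀ z ∈ F, x * z = z * x) ∧ a ∈ A ∧ a ≠ 1 ∧ orderOf y = r ∧ Commute y a ∧
    y ∈ Subgroup.normalizer (F : Set G) ∧
    Nat.card G = (Nat.card A + 1) * Nat.card A * (Nat.card A - 1) * r := by
  classical
  haveI := Fact.mk h.setup.hyp.prime
  haveI : Fact (Nat.Prime 2) := ⟨Nat.prime_two⟩
  haveI : Finite (MulAut A) := Finite.of_injective (fun e : MulAut A => (e : A → A))
    fun e f he => DFunLike.coe_injective he
  set N := Subgroup.normalizer (A : Set G)
  have hS : Cfsg.IsStronglyEmbedded N := h.setup.strongly h.nc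
  obtain ⟨t, ht, htN⟩ := Invol.strongly_exists_invol_not_mem hS
  obtain ⟨F, hFN, hFc, htF⟩ := h.exists_D0 ht htN
  obtain ⟨a, ha, ha1⟩ := h.setup.exists_ne
  have ht2 : t * t = 1 := Invol.mul_self_of_orderOf_two ht
  have hu1 : 1 < Nat.card A - 1 := by have := h.setup.big; omega
  have hFco : ∀ x ∈ F, Odd (orderOf x) ∧ ¬ r ∣ orderOf x := fun x hx => h.coprime_of_pow
    (orderOf_dvd_iff_pow_eq_one.mp (hFc ▸ Subgroup.orderOf_dvd_natCard F hx))
  obtain ⟨f₀, hf₀, hf₀1⟩ : ∃ f ∈ F, f ≠ 1 := F.ne_bot_iff_exists_ne_one.mp (fun e => by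
    rw [e, Subgroup.card_bot] at hFc; omega) |> fun ⟨f, hf⟩ => ⟨f, f.2, fun e => hf (Subtype.ext e)⟩
  obtain ⟨hFinv, hFcomm⟩ := inverts_of_free htF ht2 fun x hx hc =>
    h.eq_one_of_commute_invol ht (show Commute x t from hc.symm) (hFco x hx)
  -- the centraliser of `F`
  set E := Subgroup.centralizer (F : Set G) with hEdef
  have hEco : ∀ g ∈ E, Odd (orderOf g) ∧ ¬ r ∣ orderOf g := fun g hg =>
    h.coprime_cent (hFco f₀ hf₀) hf₀1 (show Commute g f₀ from (hg f₀ hf₀).symm)
  have hNle : Subgroup.normalizer (F : Set G) ≤ Subgroup.normalizer (E : Set G) :=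
    Coprime.le_normalizer_centralizer le_rfl
  obtain ⟨hEinv, hEcomm⟩ := inverts_of_free (hNle htF) ht2 fun x hx hc =>
    h.eq_one_of_commute_invol ht (show Commute x t from hc.symm) (hEco x hx)
  have hFE : F ≤ E := fun x hx z hz => hFcomm z hz x hx
  have hEcent : ∀ x ∈ E, x ≠ 1 → ∀ g : G, Commute g x → g ∈ E := by
    intro x hx hx1 g hg
    set C := Subgroup.centralizer ({x} : Set G)
    have hmem : ∀ z, z ∈ C ↔ Commute z x := fun z => Subgroup.mem_centralizer_singleton_iff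
    have htC : t ∈ Subgroup.normalizer (C : Set G) := by
      have key : ∀ z, Commute z x → Commute (t * z * t⁻¹) x := fun z hz => by
        have h1 : Commute (t * z * t⁻¹) (t * x * t⁻¹) := hz.map (MulAut.conj t).toMonoidHom
        rw [hEinv x hx] at h1
        simpa using h1.inv_right
      refine Subgroup.mem_normalizer_iff.mpr fun z => ?_
      rw [hmem, hmem]
      refine ⟨key z, fun hz => ?_⟩
      have := key _ hz
      rwa [Invol.inv_of_orderOf_two ht, show t * (t * z * t) * t = (t * t) * z * (t * t) by group,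
        ht2, one_mul, mul_one] at this
    obtain ⟨-, hC⟩ := inverts_of_free htC ht2 fun z hz hc =>
      h.eq_one_of_commute_invol ht (show Commute z t from hc.symm)
        (h.coprime_cent (hEco x hx) hx1 ((hmem z).mp hz))
    exact fun f hf => hC f ((hmem f).mpr (hx f hf)) g ((hmem g).mpr hg)
  have hecard : (Nat.card E).Coprime (2 * r) := by
    refine Nat.coprime_of_dvd fun p hp hd hd2 => ?_
    haveI := Fact.mk hp
    obtain ⟨⟨x, hx⟩, ho⟩ := exists_prime_orderOf_dvd_card' p hd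
    rw [Subgroup.orderOf_mk] at ho
    obtain ⟨ho2, hor⟩ := hEco x hx
    rw [ho] at ho2 hor
    rcases hp.dvd_mul.mp hd2 with h2 | h2
    · rw [(Nat.prime_dvd_prime_iff_eq hp Nat.prime_two).mp h2] at ho2
      exact absurd ho2 (by decide)
    · exact hor ((Nat.prime_dvd_prime_iff_eq hp h.setup.hyp.prime).mp h2).symm.dvd
  -- the element `y`
  obtain ⟨y₀, hy₀, hy₀a⟩ := h.exists_order_r ha ha1
  have hy₀N : y₀ ∈ N := h.cent_le ha ha1 (Subgroup.mem_centralizer_singleton_iff.mpr hy₀a.eq)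
  obtain ⟨b, hb, hbX⟩ := h.conj_into hFN hFc
    (X := F.map (MulAut.conj y₀).toMonoidHom) (by
      rintro _ ⟨x, hx, rfl⟩
      exact mul_mem (mul_mem hy₀N (hFN hx)) (inv_mem hy₀N))
    ((Subgroup.card_map_of_injective (MulAut.conj y₀).injective).trans hFc)
  have hbN : b ∈ N := Subgroup.le_normalizer hb
  set y₁ := b⁻¹ * y₀ with hy₁
  have hy₁a : Commute y₁ a :=
    (show Commute b a from h.setup.comm hb ha).inv_left.mul_left hy₀a
  have hy₁F : y₁ ∈ Subgroup.normalizer (F : Set G) := by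
    have key : ∀ x ∈ F, y₁ * x * y₁⁻¹ ∈ F := by
      intro x hx
      obtain ⟨z, hz, he⟩ := Subgroup.mem_map.mp (hbX.le ⟨x, hx, rfl⟩)
      change b * z * b⁻¹ = y₀ * x * y₀⁻¹ at he
      rw [hy₁, show b⁻¹ * y₀ * x * (b⁻¹ * y₀)⁻¹ = b⁻¹ * (y₀ * x * y₀⁻¹) * b by group, ← he]
      simpa [mul_assoc] using hz
    refine Subgroup.mem_normalizer_iff.mpr fun x => ⟨key x, fun hx => ?_⟩
    obtain ⟨z, hz, he⟩ := Subgroup.mem_map.mp (hbX.ge ⟨y₁ * x * y₁⁻¹, hx, rfl⟩)
    change y₀ * z * y₀⁻¹ = b * (y₁ * x * y₁⁻¹) * b⁻¹ at he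
    rw [hy₁, show b * (b⁻¹ * y₀ * x * (b⁻¹ * y₀)⁻¹) * b⁻¹ = y₀ * x * y₀⁻¹ by group] at he
    rwa [← mul_left_cancel (mul_right_cancel he)]
  have hy₁o : r ∣ orderOf y₁ := by
    have e : (act A).rangeRestrict ⟨y₁, mul_mem (inv_mem hbN) hy₀N⟩ =
        (act A).rangeRestrict ⟨y₀, hy₀N⟩ := Subtype.ext (by
      show act A (⟨b, hbN⟩⁻¹ * ⟨y₀, hy₀N⟩) = act A ⟨y₀, hy₀N⟩
      have e1 : act A ⟨b, hbN⟩ = 1 := h.act_eq_one_iff.mpr hb
      rw [map_mul, map_inv, e1, inv_one, one_mul])
    have h1 := orderOf_map_dvd (act A).rangeRestrict (⟨y₁, mul_mem (inv_mem hbN) hy₀N⟩ : N)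
    rw [e, h.map_order hy₀N hy₀, Subgroup.orderOf_mk] at h1
    exact h1
  set y := y₁ ^ 2
  have hy : orderOf y = r := by
    rw [orderOf_pow' y₁ two_ne_zero]
    rcases h.setup.hyp.rpart y₁ hy₁o with e | e <;> rw [e]
    · rw [show Nat.gcd r 2 = 1 from Nat.coprime_two_right.mpr h.setup.hyp.rodd, Nat.div_one]
    · rw [Nat.gcd_eq_right (dvd_mul_right 2 r), Nat.mul_div_cancel_left r two_pos]
  have hyF : y ∈ Subgroup.normalizer (F : Set G) := pow_mem hy₁F 2
  have hyN : y ∈ N := pow_mem (mul_mem (inv_mem hbN) hy₀N) 2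
  -- the normalisers
  set NE := Subgroup.normalizer (E : Set G)
  set NF := Subgroup.normalizer (F : Set G)
  set C := Subgroup.centralizer ({t} : Set G) ⊓ NE
  have hCE : ∀ g ∈ E, g ∈ Subgroup.centralizer ({t} : Set G) → g = 1 := fun g hg hgt =>
    h.eq_one_of_commute_invol ht (Subgroup.mem_centralizer_singleton_iff.mp hgt) (hEco g hg)
  have hcardNE : Nat.card NE = Nat.card E * Nat.card C := by
    rw [← Nat.card_prod]
    refine (Nat.card_congr (Equiv.ofBijective (fun p : E × C =>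
      (⟨p.1 * p.2, mul_mem (Subgroup.le_normalizer p.1.2) p.2.2.2⟩ : NE)) ⟨?_, ?_⟩)).symm
    · rintro ⟨e, c⟩ ⟨e', c'⟩ he
      have he' : (e : G) * c = e' * c' := congrArg Subtype.val he
      have h1 : (e' : G)⁻¹ * e = c' * (c : G)⁻¹ := by
        rw [eq_mul_inv_iff_mul_eq, mul_assoc, he', inv_mul_cancel_left]
      have h2 := hCE _ (mul_mem (inv_mem e'.2) e.2) (h1 ▸ mul_mem c'.2.1 (inv_mem c.2.1))
      have h3 : (e' : G) = e := inv_mul_eq_one.mp h2
      rw [h3] at he'
      exact Prod.ext (Subtype.ext h3.symm) (Subtype.ext (mul_left_cancel he'))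
    · rintro ⟨g, hg⟩
      set z := g * t * g⁻¹ with hz
      have hzE : ∀ x ∈ E, z * x * z⁻¹ = x⁻¹ := by
        intro x hx
        have h1 : g⁻¹ * x * g ∈ E := by
          simpa using (Subgroup.mem_normalizer_iff.mp (inv_mem hg) x).mp hx
        rw [hz, show g * t * g⁻¹ * x * (g * t * g⁻¹)⁻¹ = g * (t * (g⁻¹ * x * g) * t⁻¹) * g⁻¹ by group,
          hEinv _ h1]
        group
      have hw : z * t ∈ E := fun f hf => by
        have h1 : z * t * f * (z * t)⁻¹ = f := by
          rw [show z * t * f * (z * t)⁻¹ = z * (t * f * t⁻¹) * z⁻¹ by group, hFinv f hf,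
            show z * f⁻¹ * z⁻¹ = (z * f * z⁻¹)⁻¹ by group, hzE f (hFE hf), inv_inv]
        exact (mul_inv_eq_iff_eq_mul.mp h1).symm
      obtain ⟨k, hk⟩ := (hEco _ hw).1
      set s := (z * t) ^ (k + 1)
      have hs : s * s = z * t := by
        rw [← pow_add, show k + 1 + (k + 1) = orderOf (z * t) + 1 by omega, pow_add,
          pow_orderOf_eq_one, one_mul, pow_one]
      have hsE : s ∈ E := pow_mem hw _
      have hsz : s * t * s⁻¹ = z := by
        have h1 : t * s⁻¹ = s * t := by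
          have := hEinv _ (inv_mem hsE)
          rw [inv_inv, mul_inv_eq_iff_eq_mul] at this
          exact this
        rw [mul_assoc, h1, ← mul_assoc, hs, mul_assoc, ht2, mul_one]
      refine ⟨(⟨s, hsE⟩, ⟨s⁻¹ * g, ?_, mul_mem (Subgroup.inv_mem NE (Subgroup.le_normalizer hsE)) hg⟩),
        Subtype.ext (mul_inv_cancel_left s g)⟩
      refine Subgroup.mem_centralizer_singleton_iff.mpr ?_
      calc s⁻¹ * g * t = s⁻¹ * z * g := by rw [hz]; group
        _ = t * (s⁻¹ * g) := by rw [← hsz]; group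
  have hC2r : Nat.card C ∣ 2 * r := by
    have h4 : ¬ 2 ^ 2 ∣ Nat.card C := by
      intro hd
      obtain ⟨P, hP⟩ := Sylow.exists_subgroup_card_pow_prime 2 hd
      have hP2 : IsPGroup 2 (P.map C.subtype) := (IsPGroup.of_card hP).map _
      have hsub : ((P.map C.subtype : Subgroup G) : Set G) ⊆ {1, t} := by
        intro x hx
        obtain ⟨⟨x', hx'C⟩, hxP, rfl⟩ := hx
        change x' = 1 ∨ x' = t
        have hxx : x' * x' = 1 := h.setup.hyp.mul_self_of_two hP2 ⟨⟨x', hx'C⟩, hxP, rfl⟩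
        by_cases hx1 : x' = 1
        · exact Or.inl hx1
        obtain ⟨hinv, -⟩ := inverts_of_free hx'C.2 hxx fun e he hc =>
          h.eq_one_of_commute_invol (CIT.orderOf_two hxx hx1) (show Commute e x' from hc.symm)
            (hEco e he)
        have hxt : Commute x' t := Subgroup.mem_centralizer_singleton_iff.mp hx'C.1
        have hmem : x' * t ∈ E := fun f hf => by
          have h1 : x' * t * f * (x' * t)⁻¹ = f := by
            rw [show x' * t * f * (x' * t)⁻¹ = x' * (t * f * t⁻¹) * x'⁻¹ by group, hFinv f hf,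
              show x' * f⁻¹ * x'⁻¹ = (x' * f * x'⁻¹)⁻¹ by group, hinv f (hFE hf), inv_inv]
          exact (mul_inv_eq_iff_eq_mul.mp h1).symm
        have h2 : x' * t = 1 := hCE _ hmem (Subgroup.mem_centralizer_singleton_iff.mpr
          (hxt.mul_left (Commute.refl t)).eq)
        exact Or.inr ((eq_inv_of_mul_eq_one_left h2).trans (Invol.inv_of_orderOf_two ht))
      have h1 := Set.ncard_le_ncard hsub (Set.toFinite _)
      rw [← Nat.card_coe_set_eq] at h1
      have h2 : Set.ncard ({1, t} : Set G) ≤ 2 := (Set.ncard_insert_le _ _).trans (by simp)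
      have h3 : Nat.card (P.map C.subtype) = 4 := by
        rw [Subgroup.card_map_of_injective C.subtype_injective, hP]; norm_num
      simp only [SetLike.coe_sort_coe] at h1
      omega
    have hd : Nat.card C ∣ Nat.card A * r :=
      (Subgroup.card_dvd_of_le inf_le_left).trans (h.card_cent_invol ht).dvd
    obtain ⟨n, hn⟩ := IsPGroup.iff_card.mp h.setup.two
    rw [hn] at hd
    obtain ⟨d₁, d₂, hd₁, hd₂, he⟩ := Nat.dvd_mul.mp hd
    obtain ⟨i, -, rfl⟩ := (Nat.dvd_prime_pow Nat.prime_two).mp hd₁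
    rw [← he] at h4 ⊢
    refine Nat.mul_dvd_mul ?_ hd₂
    rcases Nat.lt_or_ge i 2 with hi | hi
    · interval_cases i <;> norm_num
    · exact absurd ((pow_dvd_pow 2 hi).trans (dvd_mul_right _ _)) h4
  have hNFcard : Nat.card NF = 2 * r * Nat.card E := by
    refine Nat.dvd_antisymm ?_ (Nat.Coprime.mul_dvd_of_dvd_of_dvd hecard.symm
      (Nat.Coprime.mul_dvd_of_dvd_of_dvd (Nat.coprime_two_left.mpr h.setup.hyp.rodd)
        (ht ▸ Subgroup.orderOf_dvd_natCard NF htF) (hy ▸ Subgroup.orderOf_dvd_natCard NF hyF))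
      (Subgroup.card_dvd_of_le (Subgroup.centralizer_le_normalizer _)))
    refine (Subgroup.card_dvd_of_le hNle).trans ?_
    rw [hcardNE, mul_comm (2 * r)]
    exact Nat.mul_dvd_mul_left _ hC2r
  have hNEcard : Nat.card NE = 2 * r * Nat.card E :=
    Nat.dvd_antisymm (by rw [hcardNE, mul_comm (2 * r)]; exact Nat.mul_dvd_mul_left _ hC2r)
      (hNFcard ▸ Subgroup.card_dvd_of_le hNle)
  -- `N_N(F)`
  have hNA : ∀ c ∈ A, c ∈ NF → c = 1 := by
    intro c hc hcF
    have h1 : c * f₀ * c⁻¹ * f₀⁻¹ = 1 := by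
      refine h.inf_eq_one ?_ ?_
      · exact (hFco _ (mul_mem ((Subgroup.mem_normalizer_iff.mp hcF f₀).mp hf₀) (inv_mem hf₀))).1
      · rw [show c * f₀ * c⁻¹ * f₀⁻¹ = c * (f₀ * c⁻¹ * f₀⁻¹) by group]
        exact mul_mem hc ((Subgroup.mem_normalizer_iff.mp (hFN hf₀) c⁻¹).mp (inv_mem hc))
    have hcom : Commute c f₀ := mul_inv_eq_iff_eq_mul.mp (mul_inv_eq_one.mp h1)
    exact h.inf_eq_one (h.coprime_cent (hFco f₀ hf₀) hf₀1 hcom).1 hc
  set NN := N ⊓ NF
  have hNN : Nat.card NN = (Nat.card A - 1) * r := by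
    refine Nat.dvd_antisymm ?_ (Nat.Coprime.mul_dvd_of_dvd_of_dvd h.coprime_u.symm
      (hFc ▸ Subgroup.card_dvd_of_le (le_inf hFN Subgroup.le_normalizer))
      (hy ▸ Subgroup.orderOf_dvd_natCard NN ⟨hyN, hyF⟩))
    let φ : NN →* (act A).range := (act A).rangeRestrict.comp (Subgroup.inclusion inf_le_left)
    have hφ : Function.Injective φ := (injective_iff_map_eq_one φ).mpr fun x hx =>
      Subtype.ext (hNA x (h.act_eq_one_iff.mp (congrArg Subtype.val hx)) x.2.2)
    exact (Subgroup.card_dvd_of_injective φ hφ).trans h.card_range.dvd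
  -- the cosets fixed by `F`
  let base : G ⧸ N := QuotientGroup.mk 1
  have hfix : ∀ (f g : G), f • (QuotientGroup.mk g : G ⧸ N) = QuotientGroup.mk g ↔
      g⁻¹ * f * g ∈ N := fun f g => by
    show (QuotientGroup.mk (f * g) : G ⧸ N) = QuotientGroup.mk g ↔ _
    rw [eq_comm, QuotientGroup.eq, mul_assoc]
  have hbase : ∀ g : G, (QuotientGroup.mk g : G ⧸ N) = base ↔ g ∈ N := fun g => by
    show (QuotientGroup.mk g : G ⧸ N) = QuotientGroup.mk 1 ↔ _
    rw [eq_comm, QuotientGroup.eq, inv_one, one_mul]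
  set Fix : Set (G ⧸ N) := {x | ∀ f ∈ F, f • x = x}
  have hFixorb : Fix = MulAction.orbit NF base := by
    ext x
    constructor
    · intro hx
      obtain ⟨g, rfl⟩ := QuotientGroup.mk_surjective x
      obtain ⟨c, hc, hce⟩ := h.conj_into hFN hFc (X := F.map (MulAut.conj g⁻¹).toMonoidHom) (by
          rintro _ ⟨f, hf, rfl⟩
          simpa using (hfix f g).mp (hx f hf))
        ((Subgroup.card_map_of_injective (MulAut.conj g⁻¹).injective).trans hFc)
      have key : ∀ f ∈ F, g * c * f * (g * c)⁻¹ ∈ F := fun f hf => by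
        obtain ⟨f', hf', he⟩ := Subgroup.mem_map.mp (hce.ge ⟨f, hf, rfl⟩)
        change g⁻¹ * f' * g⁻¹⁻¹ = c * f * c⁻¹ at he
        rw [show g * c * f * (g * c)⁻¹ = g * (c * f * c⁻¹) * g⁻¹ by group, ← he]
        simpa [mul_assoc] using hf'
      have hgc : g * c ∈ NF := by
        refine Subgroup.mem_normalizer_iff.mpr fun f => ⟨key f, fun hf => ?_⟩
        obtain ⟨f', hf', he⟩ := Subgroup.mem_map.mp (hce.le ⟨g * c * f * (g * c)⁻¹, hf, rfl⟩)
        change c * f' * c⁻¹ = g⁻¹ * (g * c * f * (g * c)⁻¹) * g⁻¹⁻¹ at he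
        rw [show g⁻¹ * (g * c * f * (g * c)⁻¹) * g⁻¹⁻¹ = c * f * c⁻¹ by group] at he
        rwa [← mul_left_cancel (mul_right_cancel he)]
      refine ⟨⟨g * c, hgc⟩, ?_⟩
      show (QuotientGroup.mk (g * c * 1) : G ⧸ N) = QuotientGroup.mk g
      rw [mul_one, eq_comm, QuotientGroup.eq, inv_mul_cancel_left]
      exact Subgroup.le_normalizer hc
    · rintro ⟨c, rfl⟩ f hf
      show f • (QuotientGroup.mk ((c : G) * 1) : G ⧸ N) = QuotientGroup.mk ((c : G) * 1)
      rw [mul_one, hfix]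
      exact hFN (by simpa using (Subgroup.mem_normalizer_iff.mp (inv_mem c.2) f).mp hf)
  have hFixcard : Nat.card Fix * (Nat.card A - 1) = 2 * Nat.card E := by
    have h1 := Nat.card_congr (MulAction.orbitProdStabilizerEquivGroup NF base)
    rw [Nat.card_prod, hNFcard] at h1
    have h2 : MulAction.stabilizer NF base = NN.subgroupOf NF := by
      ext c
      rw [MulAction.mem_stabilizer_iff, Subgroup.mem_subgroupOf]
      show (QuotientGroup.mk ((c : G) * 1) : G ⧸ N) = base ↔ _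
      rw [mul_one, hbase]
      exact ⟨fun h => ⟨h, c.2⟩, fun h => h.1⟩
    rw [h2, Nat.card_congr (Subgroup.subgroupOfEquivOfLe (inf_le_right : NN ≤ NF)).toEquiv, hNN,
      ← hFixorb] at h1
    refine Nat.eq_of_mul_eq_mul_left h.setup.hyp.prime.pos ?_
    linarith
  -- all cosets
  have hbaseFix : base ∈ Fix := hFixorb ▸ MulAction.mem_orbit_self base
  have hΩ : Nat.card (G ⧸ N) - 1 = Nat.card A * (Nat.card Fix - 1) := by
    have e1 : Nat.card {x : G ⧸ N // x ≠ base} = Nat.card (G ⧸ N) - 1 := by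
      haveI := Fintype.ofFinite (G ⧸ N)
      rw [Nat.card_eq_fintype_card, Fintype.card_subtype_compl, Fintype.card_subtype_eq,
        Nat.card_eq_fintype_card]
    have e2 : Nat.card {x : G ⧸ N // x ∈ Fix ∧ x ≠ base} = Nat.card Fix - 1 := by
      rw [← Set.coe_setOf, Nat.card_coe_set_eq, Nat.card_coe_set_eq,
        ← Set.ncard_sdiff_singleton_of_mem hbaseFix]
      rfl
    rw [← e1, ← e2, ← Nat.card_prod]
    refine (Nat.card_congr (Equiv.ofBijective (fun p : A × {x : G ⧸ N // x ∈ Fix ∧ x ≠ base} =>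
      (⟨(p.1 : G) • (p.2 : G ⧸ N), fun e => p.2.2.2 (by
        rw [← inv_smul_smul (p.1 : G) (p.2 : G ⧸ N), e]
        show (QuotientGroup.mk ((p.1 : G)⁻¹ * 1) : G ⧸ N) = base
        rw [mul_one, hbase]
        exact inv_mem (Subgroup.le_normalizer p.1.2))⟩ : {x : G ⧸ N // x ≠ base})) ⟨?_, ?_⟩)).symm
    · rintro ⟨c, x, hx⟩ ⟨c', x', hx'⟩ he
      have he' : (c : G) • x = (c' : G) • x' := congrArg Subtype.val he
      obtain ⟨g, hg⟩ := QuotientGroup.mk_surjective ((c : G) • x)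
      have hgN : g ∉ N := fun hgN => hx.2 (by
        rw [← inv_smul_smul (c : G) x, ← hg, (hbase g).mpr hgN]
        show (QuotientGroup.mk ((c : G)⁻¹ * 1) : G ⧸ N) = base
        rw [mul_one, hbase]
        exact inv_mem (Subgroup.le_normalizer c.2))
      have key : ∀ (d : G) (z : G ⧸ N), d ∈ A → z ∈ Fix → d • z = QuotientGroup.mk g →
          F.map (MulAut.conj d).toMonoidHom ≤ N ⊓ N.map (MulAut.conj g).toMonoidHom := by
        rintro d z hd hz hdz _ ⟨f, hf, rfl⟩
        show d * f * d⁻¹ ∈ _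
        have hdN : d ∈ N := Subgroup.le_normalizer hd
        refine ⟨N.mul_mem (N.mul_mem hdN (hFN hf)) (N.inv_mem hdN), g⁻¹ * (d * f * d⁻¹) * g, ?_, ?_⟩
        · refine (hfix _ g).mp ?_
          rw [← hdz, smul_smul, mul_assoc, inv_mul_cancel, mul_one, mul_smul, hz f hf]
        · show g * (g⁻¹ * (d * f * d⁻¹) * g) * g⁻¹ = d * f * d⁻¹
          group
      have heq := h.sub_unique inf_le_left (hS.2.2 g hgN) (key c x c.2 hx.1 hg.symm)
        (key c' x' c'.2 hx'.1 (he'.symm.trans hg.symm))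
        ((Subgroup.card_map_of_injective (MulAut.conj (c : G)).injective).trans hFc)
        ((Subgroup.card_map_of_injective (MulAut.conj (c' : G)).injective).trans hFc)
      have hcc : (c' : G)⁻¹ * c = 1 := by
        refine hNA _ (mul_mem (inv_mem c'.2) c.2) (Subgroup.mem_normalizer_iff.mpr fun f => ?_)
        constructor
        · intro hf
          obtain ⟨f', hf', hfe⟩ := Subgroup.mem_map.mp (heq.le ⟨f, hf, rfl⟩)
          change (c' : G) * f' * (c' : G)⁻¹ = (c : G) * f * (c : G)⁻¹ at hfe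
          rw [show (c' : G)⁻¹ * c * f * ((c' : G)⁻¹ * c)⁻¹
            = (c' : G)⁻¹ * ((c : G) * f * (c : G)⁻¹) * c' by group, ← hfe]
          simpa [mul_assoc] using hf'
        · intro hf
          obtain ⟨f', hf', hfe⟩ :=
            Subgroup.mem_map.mp (heq.ge ⟨(c' : G)⁻¹ * c * f * ((c' : G)⁻¹ * c)⁻¹, hf, rfl⟩)
          change (c : G) * f' * (c : G)⁻¹ =
            (c' : G) * ((c' : G)⁻¹ * c * f * ((c' : G)⁻¹ * c)⁻¹) * (c' : G)⁻¹ at hfe
          rw [show (c' : G) * ((c' : G)⁻¹ * c * f * ((c' : G)⁻¹ * c)⁻¹) * (c' : G)⁻¹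
            = (c : G) * f * (c : G)⁻¹ by group] at hfe
          rwa [← mul_left_cancel (mul_right_cancel hfe)]
      have hcc' : c' = c := Subtype.ext (inv_mul_eq_one.mp hcc)
      subst hcc'
      exact Prod.ext rfl (Subtype.ext (smul_left_cancel _ he'))
    · rintro ⟨z, hz⟩
      have hpos : 0 < Nat.card {i : G // orderOf i = 2 ∧ i • base = z} := by
        rw [Invol.strongly_card_swappers hS base z (Ne.symm hz)]
        exact @Nat.card_pos _ ⟨⟨a, h.setup.orderOf_invol ha ha1, Subgroup.le_normalizer ha⟩⟩ _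
      obtain ⟨⟨i, hi, hiz⟩⟩ := (Nat.card_pos_iff.mp hpos).1
      have hib : ∀ g : G, g • base = QuotientGroup.mk g := fun g => by
        show (QuotientGroup.mk (g * 1) : G ⧸ N) = _
        rw [mul_one]
      have hiN : i ∉ N := fun hiN => hz (by rw [← hiz, hib, hbase]; exact hiN)
      obtain ⟨Fi, hFiN, hFic, hiF⟩ := h.exists_D0 hi hiN
      obtain ⟨c, hc, hce⟩ := h.conj_into hFN hFc hFiN hFic
      refine ⟨(⟨c, hc⟩, ⟨c⁻¹ • z, ?_, ?_⟩), Subtype.ext (smul_inv_smul c z)⟩
      · intro f hf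
        have hmem : c * f * c⁻¹ ∈ Fi := hce.ge ⟨f, hf, rfl⟩
        have h1 : (c * f * c⁻¹) • z = z := by
          rw [← hiz, hib, hfix]
          exact hFiN (by simpa using (Subgroup.mem_normalizer_iff.mp (inv_mem hiF) _).mp hmem)
        conv_rhs => rw [← h1]
        rw [smul_smul, smul_smul]
        group
      · intro e
        refine hz ?_
        rw [← smul_inv_smul c z, e, hib, hbase]
        exact Subgroup.le_normalizer hc
  -- conjugates of `E`
  let baseE : G ⧸ NE := QuotientGroup.mk 1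
  have hEmem : ∀ c ∈ NE, Odd (orderOf c) ∧ ¬ r ∣ orderOf c → c ∈ E := by
    intro c hc hco
    haveI : (E.subgroupOf NE).Normal := Subgroup.normal_in_normalizer
    have hidx : (E.subgroupOf NE).index = 2 * r := by
      have h1 := (E.subgroupOf NE).card_mul_index
      rw [Nat.card_congr (Subgroup.subgroupOfEquivOfLe (Subgroup.le_normalizer (H := E))).toEquiv,
        hNEcard, mul_comm (2 * r)] at h1
      exact Nat.eq_of_mul_eq_mul_left Nat.card_pos h1
    have h1 : c ^ (2 * r) ∈ E := hidx ▸ (E.subgroupOf NE).pow_index_mem ⟨c, hc⟩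
    obtain ⟨m, hm⟩ := exists_pow_eq_self_of_coprime (x := c) (n := 2 * r)
      (Nat.Coprime.mul_left (Nat.coprime_two_left.mpr hco.1)
        (h.setup.hyp.prime.coprime_iff_not_dvd.mpr hco.2))
    exact hm ▸ pow_mem h1 m
  have hfixbase : ∀ e : E, (e : G) • baseE = baseE := fun e => by
    show (QuotientGroup.mk ((e : G) * 1) : G ⧸ NE) = QuotientGroup.mk 1
    rw [mul_one, eq_comm, QuotientGroup.eq, inv_one, one_mul]
    exact Subgroup.le_normalizer e.2
  letI : MulAction E {x : G ⧸ NE // x ≠ baseE} :=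
    { smul := fun e x => ⟨(e : G) • (x : G ⧸ NE), fun he =>
        x.2 (smul_left_cancel (e : G) (he.trans (hfixbase e).symm))⟩
      one_smul := fun x => Subtype.ext (one_smul G (x : G ⧸ NE))
      mul_smul := fun e e' x => Subtype.ext (mul_smul (e : G) (e' : G) (x : G ⧸ NE)) }
  have hfree : ∀ x : {x : G ⧸ NE // x ≠ baseE}, MulAction.stabilizer E x = ⊥ := by
    rintro ⟨x, hx⟩
    refine (Subgroup.eq_bot_iff_forall _).mpr fun e he => Subtype.ext ?_
    obtain ⟨g, rfl⟩ := QuotientGroup.mk_surjective x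
    by_contra he1
    change (e : G) ≠ 1 at he1
    have h1 : (QuotientGroup.mk ((e : G) * g) : G ⧸ NE) = QuotientGroup.mk g :=
      congrArg Subtype.val (MulAction.mem_stabilizer_iff.mp he)
    rw [eq_comm, QuotientGroup.eq] at h1
    have h2 : g⁻¹ * (e : G) * g ∈ E := hEmem _ (by rwa [mul_assoc]) (by
      have := (SemiconjBy.conj_mk g⁻¹ (e : G)).orderOf_eq
      rw [inv_inv] at this
      rw [← this]
      exact hEco _ e.2)
    refine hx ?_
    show (QuotientGroup.mk g : G ⧸ NE) = QuotientGroup.mk 1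
    rw [eq_comm, QuotientGroup.eq, inv_one, one_mul]
    have hle : ∀ z ∈ E, g * z * g⁻¹ ∈ E := fun z hz => by
      refine hEcent _ e.2 he1 _ ?_
      have := (show Commute z (g⁻¹ * (e : G) * g) from hEcomm z hz _ h2).map
        (MulAut.conj g).toMonoidHom
      simpa [mul_assoc] using this
    have heq : E.map (MulAut.conj g).toMonoidHom = E := Subgroup.eq_of_le_of_card_ge
      (by rintro _ ⟨z, hz, rfl⟩; exact hle z hz)
      (Subgroup.card_map_of_injective (MulAut.conj g).injective).ge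
    refine Subgroup.mem_normalizer_iff.mpr fun z => ⟨hle z, fun hz => ?_⟩
    obtain ⟨z', hz', he'⟩ := Subgroup.mem_map.mp (heq.ge hz)
    change g * z' * g⁻¹ = g * z * g⁻¹ at he'
    rwa [← mul_left_cancel (mul_right_cancel he')]
  have hTI : Nat.card E ∣ Nat.card (G ⧸ NE) - 1 := by
    have e1 : Nat.card {x : G ⧸ NE // x ≠ baseE} = Nat.card (G ⧸ NE) - 1 := by
      haveI := Fintype.ofFinite (G ⧸ NE)
      rw [Nat.card_eq_fintype_card, Fintype.card_subtype_compl, Fintype.card_subtype_eq,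
        Nat.card_eq_fintype_card]
    rw [← e1, Nat.card_congr (MulAction.selfEquivOrbitsQuotientProd hfree), Nat.card_prod]
    exact dvd_mul_left _ _
  -- arithmetic
  obtain ⟨m, hm⟩ := hFc ▸ Subgroup.card_dvd_of_le hFE
  have hG1 : Nat.card G = Nat.card (G ⧸ N) * (Nat.card A * ((Nat.card A - 1) * r)) := by
    rw [Subgroup.card_eq_card_quotient_mul_card_subgroup N, h.card_normalizer, h.card_range]
  have hG2 : Nat.card G = Nat.card (G ⧸ NE) * (2 * r * Nat.card E) := by
    rw [Subgroup.card_eq_card_quotient_mul_card_subgroup NE, hNEcard]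
  obtain ⟨k, hk⟩ := hTI
  have hI : 0 < Nat.card (G ⧸ NE) := Nat.card_pos
  have hO : 0 < Nat.card (G ⧸ N) := Nat.card_pos
  have hF2 : Nat.card Fix = 2 * m :=
    Nat.eq_of_mul_eq_mul_right (show 0 < Nat.card A - 1 by omega) (by rw [hFixcard, hm]; ring)
  have hm1 : 1 ≤ m := Nat.pos_of_ne_zero fun e => by
    rw [e, mul_zero] at hm; exact absurd hm Nat.card_pos.ne'
  have hmodd : Odd m := by
    have he := (Nat.Coprime.coprime_dvd_right (dvd_mul_right 2 r) hecard)
    rw [hm, Nat.coprime_two_right] at he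
    exact (Nat.odd_mul.mp he).2
  rw [hF2] at hΩ
  have hmone : m = 1 := by
    obtain ⟨n, hn⟩ := IsPGroup.iff_card.mp h.setup.two
    have e1 : Nat.card (G ⧸ N) * Nat.card A = Nat.card (G ⧸ NE) * (2 * m) := by
      refine Nat.eq_of_mul_eq_mul_right
        (show 0 < (Nat.card A - 1) * r from mul_pos (by omega) h.setup.hyp.prime.pos) ?_
      rw [mul_assoc, ← hG1, hG2, hm]
      ring
    obtain ⟨u, hu⟩ : ∃ u, Nat.card A = u + 1 := ⟨Nat.card A - 1, by omega⟩
    rw [hu, Nat.add_sub_cancel] at hm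
    rw [hm] at hk
    have e2 : (Nat.card (G ⧸ N) : ℤ) = 1 + Nat.card A * (2 * m - 1) := by
      have : Nat.card (G ⧸ N) = 1 + Nat.card A * (2 * m - 1) := by omega
      rw [this, Nat.cast_add, Nat.cast_mul, Nat.cast_one,
        Nat.cast_sub (show 1 ≤ 2 * m by omega)]
      push_cast
      ring
    have e3 : (Nat.card (G ⧸ NE) : ℤ) = 1 + u * m * k := by
      have : Nat.card (G ⧸ NE) = 1 + u * m * k := by omega
      exact_mod_cast this
    have e4 : (Nat.card (G ⧸ N) : ℤ) * Nat.card A = Nat.card (G ⧸ NE) * (2 * m) := by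
      exact_mod_cast e1
    rw [e2, e3, hu] at e4
    push_cast at e4
    have hu0 : (u : ℤ) ≠ 0 := by
      have : u ≠ 0 := by omega
      exact_mod_cast this
    have e5 : (u : ℤ) + 1 = m * (2 * (u + 2) - 2 * k * m) := by
      refine mul_left_cancel₀ hu0 ?_
      linear_combination -e4
    have hd : (m : ℤ) ∣ ((2 ^ n : ℕ) : ℤ) := ⟨2 * (u + 2) - 2 * k * m, by
      rw [← hn, hu]; push_cast; exact e5⟩
    rw [Int.natCast_dvd_natCast] at hd
    exact Nat.eq_one_of_dvd_coprimes ((Nat.coprime_two_right.mpr hmodd).pow_right n) dvd_rfl hd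
  refine ⟨F, y, a, hFN, hFc, hFcomm, ha, ha1, hy, hy₁a.pow_left 2, hyF, ?_⟩
  rw [hG1, show Nat.card (G ⧸ N) = Nat.card A + 1 by rw [hmone] at hΩ; omega]
  ring

end CfsgLib.TwoQList.Frob
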