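import Mathlib
import Cfsg.Agent.Lib.TwoQList.FrobCount
import Cfsg.Agent.Lib.OneComposite.Main
import Cfsg.Agent.Lib.SL2.PSL

/-!
The non-free case is impossible.
-/

set_option autoImplicit false
set_option linter.style.haveILetI false
set_option linter.unusedSectionVars false

namespace CfsgLib.TwoQList.Frob

open Polynomial

variable {G : Type*} [Group G] [Finite G] {r : ℕ} {A : Subgroup G}
variable (h : Frob G r A) [IsSimpleGroup G]
include h

open scoped IsMulCommutative in
/-- For `r = 3` the field of the action has eight elements. -/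
theorem card_le_of_three (hr : r = 3) : Nat.card A ≤ 24 := by
  classical
  haveI := h.setup.isMulCommutative
  obtain ⟨F, y, a, hFN, hFc, hFcomm, ha, ha1, hy, hya, hyF, -⟩ := h.exists_count
  haveI := Fintype.ofFinite A
  set N := Subgroup.normalizer (A : Set G)
  have hyN : y ∈ N := h.cent_le ha ha1 (Subgroup.mem_centralizer_singleton_iff.mpr hya.eq)
  let τ : N →* AddMonoid.End (Additive A) :=
    { toFun := fun g => MonoidHom.toAdditive (act A g).toMonoidHom
      map_one' := by rw [map_one]; rfl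
      map_mul' := fun g g' => by rw [map_mul]; rfl }
  have hτ : ∀ (g : N) (v : Additive A), τ g v = Additive.ofMul (act A g v.toMul) := fun _ _ => rfl
  let φ : F → AddMonoid.End (Additive A) := fun f => τ ⟨f, hFN f.2⟩
  let va : Additive A := Additive.ofMul ⟨a, ha⟩
  have hva : va ≠ 0 := fun e => ha1 (congrArg Subtype.val (Additive.ofMul.injective e))
  have horb : ∀ v : Additive A, v ≠ 0 → ∃ f : F, φ f va = v := by
    have hne : ∀ f : F, φ f va ≠ 0 := fun f e => by
      refine hva ?_
      have : τ (⟨f, hFN f.2⟩⁻¹ * ⟨f, hFN f.2⟩) va = τ ⟨f, hFN f.2⟩⁻¹ (φ f va) := by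
        rw [map_mul]; rfl
      rw [inv_mul_cancel, map_one, e, map_zero] at this
      exact this
    have hinj : Function.Injective fun f : F => (⟨φ f va, hne f⟩ : {v : Additive A // v ≠ 0}) := by
      intro f f' e
      have e' : (f : G) * a * (f : G)⁻¹ = (f' : G) * a * (f' : G)⁻¹ :=
        congrArg (fun v : {v : Additive A // v ≠ 0} => ((v.1.toMul : A) : G)) e
      have hc : Commute ((f' : G)⁻¹ * f) a := by
        refine mul_inv_eq_iff_eq_mul.mp ?_
        rw [show (f' : G)⁻¹ * f * a * ((f' : G)⁻¹ * f)⁻¹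
          = (f' : G)⁻¹ * ((f : G) * a * (f : G)⁻¹) * f' by group, e']
        group
      exact Subtype.ext (inv_mul_eq_one.mp (h.eq_one_of_commute_invol (h.setup.orderOf_invol ha ha1) hc
        (h.coprime_of_pow (orderOf_dvd_iff_pow_eq_one.mp
          (hFc ▸ Subgroup.orderOf_dvd_natCard F (mul_mem (inv_mem f'.2) f.2)))))).symm
    have hcard : Nat.card {v : Additive A // v ≠ 0} = Nat.card F := by
      haveI := Fintype.ofFinite (Additive A)
      rw [hFc, Nat.card_eq_fintype_card, Fintype.card_subtype_compl, Fintype.card_subtype_eq,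
        ← Nat.card_eq_fintype_card]
      rfl
    intro v hv
    obtain ⟨f, hf⟩ := (hinj.bijective_of_nat_card_le hcard.le).2 ⟨v, hv⟩
    exact ⟨f, congrArg Subtype.val hf⟩
  set L := Subring.centralizer (Set.range φ)
  have hφL : ∀ f : F, φ f ∈ L := fun f => Subring.mem_centralizer_iff.mpr (by
    rintro _ ⟨f', rfl⟩
    show τ _ * τ _ = τ _ * τ _
    rw [← map_mul, ← map_mul]
    exact congrArg τ (Subtype.ext (hFcomm f' f'.2 f f.2)))
  have hcomm : ∀ (l : L) (f : F), (l : AddMonoid.End (Additive A)) * φ f = φ f * l := fun l f =>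
    (Subring.mem_centralizer_iff.mp l.2 (φ f) ⟨f, rfl⟩).symm
  have hzero : ∀ l : L, (l : AddMonoid.End (Additive A)) va = 0 → l = 0 := by
    intro l hl
    refine Subtype.ext (AddMonoidHom.ext fun v => ?_)
    by_cases hv : v = 0
    · subst hv; exact (map_zero _).trans (map_zero _).symm
    obtain ⟨f, rfl⟩ := horb v hv
    show ((l : AddMonoid.End (Additive A)) * φ f) va = 0
    rw [hcomm]
    show φ f ((l : AddMonoid.End (Additive A)) va) = 0
    rw [hl, map_zero]
  have hform : ∀ l : L, l = 0 ∨ ∃ f : F, l = ⟨φ f, hφL f⟩ := by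
    intro l
    by_cases hl : (l : AddMonoid.End (Additive A)) va = 0
    · exact Or.inl (hzero l hl)
    obtain ⟨f, hf⟩ := horb _ hl
    refine Or.inr ⟨f, sub_eq_zero.mp (hzero _ ?_)⟩
    show (l : AddMonoid.End (Additive A)) va - φ f va = 0
    rw [hf, sub_self]
  letI : CommRing L :=
    { (inferInstance : Ring L) with
      mul_comm := fun l l' => by
        rcases hform l with rfl | ⟨f, rfl⟩
        · rw [zero_mul, mul_zero]
        · exact Subtype.ext (hcomm l' f).symm }
  haveI : NoZeroDivisors L := ⟨fun {l l'} hll => by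
    rcases hform l with rfl | ⟨f, rfl⟩
    · exact Or.inl rfl
    right
    have h1 : (⟨φ f⁻¹, hφL f⁻¹⟩ : L) * ⟨φ f, hφL f⟩ = 1 := Subtype.ext (by
      show τ _ * τ _ = 1
      rw [← map_mul, ← map_one τ]
      exact congrArg τ (Subtype.ext (inv_mul_cancel (f : G))))
    rw [← one_mul l', ← h1, mul_assoc, hll, mul_zero]⟩
  haveI : Nontrivial L := ⟨⟨1, 0, fun e => hva (congrArg (fun l : L =>
    (l : AddMonoid.End (Additive A)) va) e)⟩⟩
  haveI : IsDomain L := NoZeroDivisors.to_isDomain L
  haveI : Finite (AddMonoid.End (Additive A)) := Finite.of_injective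
    (fun l : AddMonoid.End (Additive A) => (l : Additive A → Additive A))
    fun e f he => DFunLike.coe_injective he
  haveI := Fintype.ofFinite L
  have hcardL : Nat.card A ≤ Fintype.card L := by
    rw [← Nat.card_eq_fintype_card]
    refine Nat.card_le_card_of_surjective
      (fun l : L => Additive.toMul ((l : AddMonoid.End (Additive A)) va)) fun v => ?_
    by_cases hv : v = 1
    · exact ⟨0, hv.symm⟩
    · obtain ⟨f, hf⟩ := horb (Additive.ofMul v) fun e => hv (Additive.ofMul.injective e)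
      exact ⟨⟨φ f, hφL f⟩, congrArg Additive.toMul hf⟩
  -- the automorphism
  set Y : N := ⟨y, hyN⟩
  have hτ1 : τ Y⁻¹ * τ Y = 1 := by rw [← map_mul, inv_mul_cancel, map_one]
  have hτ2 : τ Y * τ Y⁻¹ = 1 := by rw [← map_mul, mul_inv_cancel, map_one]
  have hσmem : ∀ l : L, τ Y * (l : AddMonoid.End (Additive A)) * τ Y⁻¹ ∈ L := fun l =>
    Subring.mem_centralizer_iff.mpr (by
      rintro _ ⟨f, rfl⟩
      have hf' : y⁻¹ * f * y ∈ F := by
        simpa using (Subgroup.mem_normalizer_iff.mp (inv_mem hyF) f).mp f.2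
      have e : τ Y⁻¹ * φ f * τ Y = φ ⟨_, hf'⟩ := by
        show τ _ * τ _ * τ _ = τ _
        rw [← map_mul, ← map_mul]
        rfl
      calc φ f * (τ Y * (l : AddMonoid.End (Additive A)) * τ Y⁻¹)
          = τ Y * (τ Y⁻¹ * φ f * τ Y) * l * τ Y⁻¹ := by
            simp only [← mul_assoc, hτ2, one_mul]
        _ = τ Y * ((l : AddMonoid.End (Additive A)) * φ ⟨_, hf'⟩) * τ Y⁻¹ := by
            rw [e, hcomm]; simp only [mul_assoc]
        _ = τ Y * (l : AddMonoid.End (Additive A)) * τ Y⁻¹ * φ f := by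
            rw [← e]; simp only [mul_assoc, hτ2, mul_one])
  let σ : L →+* L :=
    { toFun := fun l => ⟨_, hσmem l⟩
      map_one' := Subtype.ext (by
        show τ Y * 1 * τ Y⁻¹ = 1
        rw [mul_one, hτ2])
      map_mul' := fun l l' => Subtype.ext (by
        show τ Y * (↑l * ↑l') * τ Y⁻¹ = τ Y * ↑l * τ Y⁻¹ * (τ Y * ↑l' * τ Y⁻¹)
        rw [show τ Y * ↑l * τ Y⁻¹ * (τ Y * ↑l' * τ Y⁻¹) = τ Y * ↑l * (τ Y⁻¹ * τ Y) * ↑l' * τ Y⁻¹
          by simp only [mul_assoc], hτ1, mul_one]
        simp only [mul_assoc])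
      map_zero' := Subtype.ext (by
        show τ Y * 0 * τ Y⁻¹ = 0
        rw [mul_zero, zero_mul])
      map_add' := fun l l' => Subtype.ext (by
        show τ Y * (↑l + ↑l') * τ Y⁻¹ = τ Y * ↑l * τ Y⁻¹ + τ Y * ↑l' * τ Y⁻¹
        rw [mul_add, add_mul]) }
  have hσ3 : ∀ l : L, σ (σ (σ l)) = l := by
    intro l
    have hY3 : Y ^ 3 = 1 := Subtype.ext (by
      show y ^ 3 = 1
      rw [← hr, ← hy, pow_orderOf_eq_one])
    refine Subtype.ext ?_
    show τ Y * (τ Y * (τ Y * ↑l * τ Y⁻¹) * τ Y⁻¹) * τ Y⁻¹ = ↑l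
    rw [show τ Y * (τ Y * (τ Y * ↑l * τ Y⁻¹) * τ Y⁻¹) * τ Y⁻¹ =
      (τ Y * τ Y * τ Y) * ↑l * (τ Y⁻¹ * τ Y⁻¹ * τ Y⁻¹) by simp only [mul_assoc]]
    simp only [← map_mul]
    rw [show Y * Y * Y = Y ^ 3 by rw [pow_succ, pow_two], show Y⁻¹ * Y⁻¹ * Y⁻¹ = (Y ^ 3)⁻¹ by rw [← inv_pow, pow_succ, pow_two], hY3, inv_one,
      map_one, one_mul, mul_one]
  have hfixed : ∀ l : L, σ l = l → l = 0 ∨ l = 1 := by
    intro l hl
    set w := (l : AddMonoid.End (Additive A)) va
    have h1 : τ Y⁻¹ va = va := by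
      rw [hτ]
      refine congrArg Additive.ofMul (Subtype.ext ?_)
      show y⁻¹ * a * y⁻¹⁻¹ = a
      rw [inv_inv, mul_assoc, ← hya.eq, inv_mul_cancel_left]
    have h2 : τ Y w = w := by
      have := congrArg (fun l : L => (l : AddMonoid.End (Additive A)) va) hl
      change τ Y ((l : AddMonoid.End (Additive A)) (τ Y⁻¹ va)) = w at this
      rwa [h1] at this
    have h3 := congrArg (fun v : Additive A => ((v.toMul : A) : G)) h2
    change y * (w.toMul : G) * y⁻¹ = (w.toMul : G) at h3
    rcases h.two_rank ha ha1 hy hya (w.toMul).2 (mul_inv_eq_iff_eq_mul.mp h3) with e | e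
    · exact Or.inl (hzero l (Additive.toMul.injective (Subtype.ext e)))
    · refine Or.inr (sub_eq_zero.mp (hzero _ ?_))
      show w - va = 0
      exact sub_eq_zero.mpr (Additive.toMul.injective (Subtype.ext e))
  -- every element is the root of one of eight cubics
  let S : Finset (L × L × L) := ({0, 1} : Finset L) ×ˢ ({0, 1} : Finset L) ×ˢ ({0, 1} : Finset L)
  let P : L × L × L → L[X] := fun c => X ^ 3 - C c.1 * X ^ 2 + C c.2.1 * X - C c.2.2
  have hsub : (Finset.univ : Finset L) ⊆ S.biUnion fun c => (P c).roots.toFinset := by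
    intro x _
    have hmem : ∀ l : L, σ l = l → l ∈ ({0, 1} : Finset L) := fun l hl => by
      rcases hfixed l hl with rfl | rfl <;> simp
    refine Finset.mem_biUnion.mpr ⟨(x + σ x + σ (σ x), x * σ x + σ x * σ (σ x) + σ (σ x) * x,
      x * σ x * σ (σ x)), ?_, ?_⟩
    · simp only [S, Finset.mem_product]
      refine ⟨hmem _ ?_, hmem _ ?_, hmem _ ?_⟩ <;> simp only [map_add, map_mul, hσ3] <;> ring
    · have hmon : (P (x + σ x + σ (σ x), x * σ x + σ x * σ (σ x) + σ (σ x) * x,
          x * σ x * σ (σ x))).Monic := by simp only [P]; monicity!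
      rw [Multiset.mem_toFinset, mem_roots hmon.ne_zero, IsRoot.def]
      simp only [P, eval_sub, eval_add, eval_mul, eval_pow, eval_X, eval_C]
      ring
  have hdeg : ∀ c ∈ S, ((P c).roots.toFinset).card ≤ 3 := fun c _ =>
    (Multiset.toFinset_card_le _).trans ((card_roots' _).trans (by simp only [P]; compute_degree!))
  have hS : S.card ≤ 8 := by
    have h2 : ({0, 1} : Finset L).card ≤ 2 := (Finset.card_insert_le _ _).trans (by simp)
    simp only [S, Finset.card_product]
    exact Nat.mul_le_mul h2 (Nat.mul_le_mul h2 h2)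
  refine hcardL.trans ?_
  rw [← Finset.card_univ]
  exact (Finset.card_le_card hsub).trans
    ((Finset.card_biUnion_le_card_mul _ _ _ hdeg).trans (Nat.mul_le_mul hS le_rfl))

theorem frob_false : False := by
  classical
  haveI := Fact.mk h.setup.hyp.prime
  haveI : Fact (Nat.Prime 2) := ⟨Nat.prime_two⟩
  obtain ⟨F, y, a, hFN, hFc, -, ha, ha1, hy, hya, -, hG⟩ := h.exists_count
  have hr := h.setup.hyp.prime
  obtain ⟨n, hn⟩ := IsPGroup.iff_card.mp h.setup.two
  by_cases hr3 : r = 3
  · have hle := h.card_le_of_three hr3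
    have hmod := h.card_mod
    have hbig := h.setup.big
    rw [hn] at hle hmod hbig
    rw [hr3, Nat.ModEq] at hmod
    have hn3 : n = 3 := by
      have : n < 5 := by
        by_contra hlt
        have : 2 ^ 5 ≤ 2 ^ n := Nat.pow_le_pow_right two_pos (by omega)
        omega
      interval_cases n <;> first | omega | rfl
    have h1512 : Nat.card G = 1512 := by rw [hG, hn, hn3, hr3]; norm_num
    have hyp : OneComposite.Hyp G 3 := by
      refine ⟨Nat.prime_three, by norm_num, fun x hx => ?_, hr3 ▸ h.setup.hyp.ex⟩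
      rcases Nat.even_or_odd (orderOf x) with he | ho
      · exact (h.setup.hyp.even x (even_iff_two_dvd.mp he)).imp
          (fun e => by rw [e]; exact Nat.prime_two) (fun e => e.trans (by rw [hr3]))
      left
      by_cases h3 : r ∣ orderOf x
      · exact h.setup.hyp.r_of_odd ho h3 ▸ hr
      rw [hr3] at h3
      have hd : orderOf x ∣ 7 * 216 := (h1512 ▸ orderOf_dvd_natCard x : orderOf x ∣ 1512)
      have hc : (orderOf x).Coprime 216 := by
        rw [show 216 = 2 ^ 3 * 3 ^ 3 by norm_num]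
        exact Nat.Coprime.mul_right ((Nat.coprime_two_right.mpr ho).pow_right 3)
          ((Nat.prime_three.coprime_iff_not_dvd.mpr h3).symm.pow_right 3)
      rcases (Nat.dvd_prime (by norm_num : Nat.Prime 7)).mp (hc.dvd_of_dvd_mul_right hd) with e | e
      · exact absurd (orderOf_eq_one_iff.mp e) hx
      · rw [e]; norm_num
    obtain ⟨K, i1, i2, ⟨e⟩⟩ := OneComposite.psl_of_hyp h.nc hyp
    have hc := SL2.card_PSL (F := K)
    rw [← Nat.card_congr e.toEquiv, h1512] at hc
    have hg : Nat.gcd 2 (Nat.card K - 1) ≤ 2 := Nat.le_of_dvd two_pos (Nat.gcd_dvd_left _ _)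
    have hg0 : 0 < Nat.gcd 2 (Nat.card K - 1) := Nat.gcd_pos_of_pos_left _ two_pos
    have hK : Nat.card K < 16 := by
      by_contra hlt
      have : 16 * (15 * 17) ≤ Nat.card K * ((Nat.card K - 1) * (Nat.card K + 1)) :=
        Nat.mul_le_mul (by omega) (Nat.mul_le_mul (by omega) (by omega))
      nlinarith
    interval_cases Nat.card K <;> norm_num at hc
  · have hr5 : 3 < r := by
      have := hr.two_le
      have := h.setup.hyp.ne_two
      omega
    have hq1 : ¬ r ∣ Nat.card A + 1 := fun hd => by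
      have h1 : Nat.card A + 1 ≡ 3 [MOD r] := h.card_mod.add_right 1
      exact absurd (Nat.le_of_dvd three_pos ((Nat.ModEq.dvd_iff h1 dvd_rfl).mp hd)) (by omega)
    have hr2 : ¬ r ^ 2 ∣ Nat.card G := fun hd => by
      rw [hG, sq] at hd
      rcases (Nat.Prime.dvd_mul hr).mp (Nat.dvd_of_mul_dvd_mul_right hr.pos hd) with hd | hd
      · rcases (Nat.Prime.dvd_mul hr).mp hd with hd | hd
        · exact hq1 hd
        · rw [hn] at hd
          exact h.setup.hyp.ne_two
            ((Nat.prime_dvd_prime_iff_eq hr Nat.prime_two).mp (hr.dvd_of_dvd_pow hd))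
      · exact h.not_dvd_u hd
    have hyN : y ∈ Subgroup.normalizer (A : Set G) :=
      h.cent_le ha ha1 (Subgroup.mem_centralizer_singleton_iff.mpr hya.eq)
    refine h.burnside_false hy (fun Q hQ hyQ _ => ?_) fun g hg => ?_
    · refine (Subgroup.eq_of_le_of_card_ge (Subgroup.zpowers_le.mpr hyQ) ?_).symm
      obtain ⟨k, hk⟩ := IsPGroup.iff_card.mp hQ
      rw [Nat.card_zpowers, hy, hk]
      refine (Nat.pow_le_pow_right hr.pos (show k ≤ 1 from ?_)).trans (pow_one r).le
      by_contra hlt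
      exact hr2 ((pow_dvd_pow r (by omega : 2 ≤ k)).trans (hk ▸ Q.card_subgroup_dvd_card))
    set H := Subgroup.centralizer ({y} : Set G)
    have hgy : g * y * g⁻¹ ∈ Subgroup.zpowers y :=
      (Subgroup.mem_normalizer_iff.mp hg y).mp (Subgroup.mem_zpowers y)
    have haH : a ∈ H := Subgroup.mem_centralizer_singleton_iff.mpr hya.eq.symm
    have ha2 := h.setup.invol ha
    have hgH : g * a * g⁻¹ ∈ H := by
      refine Subgroup.mem_centralizer_singleton_iff.mpr ?_
      have h1 : g⁻¹ * y * g ∈ Subgroup.zpowers y := by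
        simpa using (Subgroup.mem_normalizer_iff.mp (inv_mem hg) y).mp (Subgroup.mem_zpowers y)
      obtain ⟨k, hk⟩ := Subgroup.mem_zpowers_iff.mp h1
      have h2 : Commute (g⁻¹ * y * g) a := hk ▸ hya.zpow_left k
      calc g * a * g⁻¹ * y = g * (a * (g⁻¹ * y * g)) * g⁻¹ := by group
        _ = g * ((g⁻¹ * y * g) * a) * g⁻¹ := by rw [h2.eq]
        _ = y * (g * a * g⁻¹) := by group
    have hgg : (g * a * g⁻¹) * (g * a * g⁻¹) = 1 := by
      rw [show g * a * g⁻¹ * (g * a * g⁻¹) = g * (a * a) * g⁻¹ by group, ha2, mul_one, mul_inv_cancel]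
    have hp2 : ∀ z : H, (z : G) * z = 1 → IsPGroup 2 (Subgroup.zpowers z) := fun z hz =>
      Transfer.isPGroup_zpowers ⟨(orderOf z).factorization 2,
        Nat.eq_prime_pow_of_unique_prime_dvd (orderOf_pos z).ne' (fun {d} hd hdd =>
          (Nat.prime_dvd_prime_iff_eq hd Nat.prime_two).mp (hdd.trans
            (orderOf_dvd_of_pow_eq_one (Subtype.ext (by rw [Subgroup.coe_pow, sq]; exact hz))))) ▸ by
        rw [Nat.Prime.factorization_pow Nat.prime_two]; simp⟩
    obtain ⟨P, hP⟩ := (hp2 ⟨a, haH⟩ ha2).exists_le_sylow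
    obtain ⟨R, hR⟩ := (hp2 ⟨_, hgH⟩ hgg).exists_le_sylow
    obtain ⟨c, hc⟩ := MulAction.exists_smul_eq H R P
    set z := (c : G) * (g * a * g⁻¹) * (c : G)⁻¹
    have hPm : IsPGroup 2 ((P : Subgroup H).map H.subtype) := P.2.map _
    have haP : a ∈ (P : Subgroup H).map H.subtype :=
      ⟨⟨a, haH⟩, hP (Subgroup.mem_zpowers _), rfl⟩
    have hzP : z ∈ (P : Subgroup H).map H.subtype := by
      refine ⟨c * ⟨_, hgH⟩ * c⁻¹, ?_, rfl⟩
      rw [← hc, Sylow.coe_subgroup_smul, Subgroup.pointwise_smul_def]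
      exact ⟨⟨_, hgH⟩, hR (Subgroup.mem_zpowers _), rfl⟩
    have hzz := h.setup.hyp.mul_self_of_two hPm hzP
    have hza : Commute z a := by
      have e1 := h.setup.hyp.mul_self_of_two hPm (mul_mem hzP haP)
      calc z * a = (z * a)⁻¹ := (inv_eq_of_mul_eq_one_right e1).symm
        _ = a * z := by
          rw [mul_inv_rev, inv_eq_of_mul_eq_one_right ha2, inv_eq_of_mul_eq_one_right hzz]
    have hzA : z ∈ A :=
      h.setup.two_mem (h.cent_le ha ha1 (Subgroup.mem_centralizer_singleton_iff.mpr hza.eq)) hzz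
    have hzy : Commute y z := by
      obtain ⟨z', -, hz'⟩ := hzP
      rw [← hz']
      exact (Subgroup.mem_centralizer_singleton_iff.mp z'.2).symm
    have hz' : z = (c : G) * g * a * ((c : G) * g)⁻¹ := by
      show (c : G) * (g * a * g⁻¹) * (c : G)⁻¹ = _
      group
    rcases h.two_rank ha ha1 hy hya hzA hzy with e | e
    · rw [hz', conj_eq_one_iff] at e
      exact absurd e ha1
    have hcgN : (c : G) * g ∈ Subgroup.normalizer (A : Set G) := by
      refine h.cent_le ha ha1 (Subgroup.mem_centralizer_singleton_iff.mpr ?_)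
      exact mul_inv_eq_iff_eq_mul.mp (hz'.symm.trans e)
    have hcy : Commute (c : G) y := Subgroup.mem_centralizer_singleton_iff.mp c.2
    have hcgy : (c : G) * g * y * ((c : G) * g)⁻¹ ∈ Subgroup.zpowers y := by
      obtain ⟨k, hk⟩ := Subgroup.mem_zpowers_iff.mp hgy
      refine ⟨k, ?_⟩
      rw [show (c : G) * g * y * ((c : G) * g)⁻¹ = c * (g * y * g⁻¹) * (c : G)⁻¹ by group]
      show y ^ k = _
      rw [← hk, (hcy.zpow_right k).eq, mul_inv_cancel_right]
    have hcgH : (c : G) * g ∈ H :=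
      Subgroup.mem_centralizer_singleton_iff.mpr (h.commute_of_mem hcgN hyN hy hcgy).eq
    have := mul_mem (inv_mem c.2) hcgH
    rwa [inv_mul_cancel_left] at this

end CfsgLib.TwoQList.Frob
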