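import Mathlib
import Cfsg.Agent.Lib.TwoQList.FreeCase
import Cfsg.Agent.Lib.TwoQList.WZero
import Cfsg.Agent.Lib.TwoQList.FrobFalse

/-!
There is no complete signalizer functor on a non-cyclic Sylow `2`-subgroup of rank at least three.
-/

set_option autoImplicit false
set_option linter.style.haveILetI false
set_option linter.unusedSectionVars false

namespace CfsgLib.TwoQList

variable {G : Type*} [Group G] [Finite G] {r : ℕ} {A : Subgroup G}

theorem Setup.contradiction (S : Setup G r A) [IsSimpleGroup G]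
    (hnc : ∃ a b : G, a * b ≠ b * a) : False := by
  by_cases hnf : ∃ f : (act A).range, f ≠ 1 ∧ ∃ v : A, v ≠ 1 ∧ (f : MulAut A) v = v
  · obtain ⟨hr, p, P, hp, hpr, hp2, hP, hPc⟩ := S.exists_normal_prime hnc hnf
    have hW := S.W_eq_bot hnc P hP hp hpr hp2 hPc hr
    refine Frob.frob_false (A := A) ⟨S, hnc, fun g hg => ?_, hnf⟩
    obtain ⟨a, ha, w, hw, rfl⟩ := S.mem_sup_of_cent hg
    rw [hW, Subgroup.mem_bot] at hw
    rwa [hw, mul_one]
  · exact S.free_false hnc fun f hf v hv => by_contra fun h1 => hnf ⟨f, hf, v, h1, hv⟩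

end CfsgLib.TwoQList
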