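import Mathlib
import Cfsg.Agent.Lib.TwoQList.Central
import Cfsg.Agent.Lib.Invol.KleinSylow
import Cfsg.Agent.Lib.Transfer.Focal
import Cfsg.Agent.Lib.Coprime.Generation

/-!
A Klein four Sylow `2`-subgroup with one class of involutions, in a group whose only composite
element order is `2r`.
-/

set_option autoImplicit false
set_option linter.style.haveILetI false
set_option linter.unusedSectionVars false

namespace CfsgLib.TwoQList

open CfsgLib.OneComposite (coreIn coreIn_le coreIn_odd conj_mem_coreIn le_coreIn le_normalizer_coreIn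
  normal_sup_coreIn normalizer_le_normalizer_coreIn two_r_parts actV actV_of mul_pow_abel norm_eq)

variable {G : Type*} [Group G] [Finite G] {r : ℕ} {A : Subgroup G}

namespace Pre

variable (S : Pre G r A)
include S

theorem not_cyclic : ¬ IsCyclic A :=
  Coprime.not_isCyclic_of_exponent (p := 2) (fun a ha => by rw [sq]; exact S.invol ha) two_pos
    (lt_of_lt_of_le (by norm_num) S.big)

theorem coprime_card {K : Subgroup G} (hK : Odd (Nat.card K)) :
    (Nat.card A).Coprime (Nat.card K) := by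
  haveI : Fact (Nat.Prime 2) := ⟨Nat.prime_two⟩
  obtain ⟨k, hk⟩ := IsPGroup.iff_card.mp S.two
  rw [hk]
  exact (Nat.coprime_two_left.mpr hK).pow_left k

theorem zpowers_le_normalizer {x : G} (hx : x ∈ Subgroup.centralizer (A : Set G)) :
    A ≤ Subgroup.normalizer (Subgroup.zpowers x : Set G) := by
  refine le_trans (fun a ha => ?_) (Subgroup.centralizer_le_normalizer _)
  intro y hy
  obtain ⟨n, rfl⟩ := Subgroup.mem_zpowers_iff.mp hy
  exact ((show Commute a x from hx a ha).zpow_right n).eq.symm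

theorem mem_theta_of_cent {x : G} (hx : x ∈ Subgroup.centralizer (A : Set G))
    (ho : Odd (orderOf x)) {a : G} (ha : a ∈ A) (h1 : a ≠ 1) : x ∈ theta a := by
  refine S.le_theta ha h1 (X := Subgroup.zpowers x) ?_ (S.zpowers_le_normalizer hx) ?_
    (Subgroup.mem_zpowers x)
  · rw [Subgroup.zpowers_le]
    exact Subgroup.mem_centralizer_singleton_iff.mpr (hx a ha).symm
  · rwa [Nat.card_zpowers]

theorem odd_orderOf_mem {K : Subgroup G} (hK : Odd (Nat.card K)) {x : G} (hx : x ∈ K) :
    Odd (orderOf x) :=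
  hK.of_dvd_nat (Subgroup.orderOf_dvd_natCard _ hx)

/-- An involution in `A X`, for `X` of odd order centralised by `A`, lies in `A`. -/
theorem mem_of_invol_sup {X : Subgroup G} (hX : A ≤ Subgroup.centralizer (X : Set G))
    (hodd : Odd (Nat.card X)) {x : G} (hx : x ∈ A ⊔ X) (h : x * x = 1) : x ∈ A := by
  rw [← SetLike.mem_coe, Subgroup.coe_mul_of_left_le_normalizer_right A X (fun a ha =>
    Subgroup.centralizer_le_normalizer _ (hX ha)), Set.mem_mul] at hx
  obtain ⟨a, ha, w, hw, rfl⟩ := hx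
  have hc : Commute a w := (hX ha w hw).symm
  have hw2 : w * w = 1 := by
    have : a * w * (a * w) = a * a * (w * w) := by rw [hc.symm.mul_mul_mul_comm]
    rwa [this, S.invol ha, one_mul] at h
  have hw1 : w = 1 := orderOf_eq_one_iff.mp (Nat.eq_one_of_dvd_coprimes
    (Nat.coprime_two_left.mpr hodd) (orderOf_dvd_of_pow_eq_one (by rwa [sq]))
    (Subgroup.orderOf_dvd_natCard _ hw))
  rw [hw1, mul_one]
  exact ha

/-- An `A`-invariant subgroup of odd order is an `r`-group. -/
theorem pgroup_of_invariant {K : Subgroup G} (hK : Odd (Nat.card K))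
    (hAK : A ≤ Subgroup.normalizer (K : Set G)) : IsPGroup r K := by
  haveI := Fact.mk S.hyp.prime
  haveI := S.isMulCommutative
  refine IsPGroup.iff_card.mpr ⟨_, Nat.eq_prime_pow_of_unique_prime_dvd Nat.card_pos.ne'
    fun {q} hq hd => by_contra fun hne => ?_⟩
  haveI := Fact.mk hq
  obtain ⟨Q, hQ⟩ := Coprime.exists_invariant_sylow hAK (S.coprime_card hK)
    (Or.inl (Coprime.isSolvable_of_isMulCommutative A)) q
  set Q' := (Q : Subgroup K).map K.subtype
  have hle : Q' ≤ ⊥ := Coprime.le_of_centralizer_le S.not_cyclic hQ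
    ((S.coprime_card hK).coprime_dvd_right (Subgroup.card_dvd_of_le (Subgroup.map_subtype_le _)))
    fun a ha h1 x hx => by
      obtain ⟨hxQ, hxC⟩ := Subgroup.mem_inf.mp hx
      have hxt : x ∈ theta a := S.le_theta ha h1 (X := K ⊓ Subgroup.centralizer ({a} : Set G))
        inf_le_right (Coprime.le_normalizer_inf_of_le hAK
          ((S.le_cent ha).trans Subgroup.le_normalizer))
        (hK.of_dvd_nat (Subgroup.card_dvd_of_le inf_le_left))
        (Subgroup.mem_inf.mpr ⟨Subgroup.map_subtype_le _ hxQ, hxC⟩)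
      obtain ⟨k, hk⟩ := (Q.2.map _) ⟨x, hxQ⟩
      obtain ⟨j, hj⟩ := S.theta_pgroup ha h1 ⟨x, hxt⟩
      exact orderOf_eq_one_iff.mp (Nat.eq_one_of_dvd_coprimes
        (Nat.Coprime.pow k j ((Nat.coprime_primes hq S.hyp.prime).mpr hne))
        (orderOf_dvd_of_pow_eq_one (congrArg Subtype.val hk))
        (orderOf_dvd_of_pow_eq_one (congrArg Subtype.val hj)))
  exact Q.ne_bot_of_dvd_card hd ((Subgroup.map_eq_bot_iff_of_injective _ K.subtype_injective).mp
    (le_bot_iff.mp hle))

end Pre

/-- A Klein four Sylow `2`-subgroup and one class of involutions. -/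
structure Klein (G : Type*) [Group G] [Finite G] (r : ℕ) (A : Subgroup G) : Prop where
  pre : Pre G r A
  card : Nat.card A = 4
  conj : ∀ s t : G, orderOf s = 2 → orderOf t = 2 → IsConj s t

namespace Klein

variable (K : Klein G r A)
include K

theorem four {a b : G} (ha : a ∈ A) (hb : b ∈ A) (ha1 : a ≠ 1) (hb1 : b ≠ 1) (hab : a ≠ b)
    {x : G} (hx : x ∈ A) : x = 1 ∨ x = a ∨ x = b ∨ x = a * b := by
  classical
  have hs : ({1, a, b, a * b} : Finset G).card = 4 := by
    have h1 : a * b ≠ 1 := fun e => hab (by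
      rw [mul_eq_one_iff_eq_inv] at e
      rw [e, inv_eq_of_mul_eq_one_right (K.pre.invol hb)])
    have h2 : a * b ≠ a := fun e => hb1 (mul_eq_left.mp e)
    have h3 : a * b ≠ b := fun e => ha1 (mul_eq_right.mp e)
    simp [Finset.card_insert_of_notMem, Ne.symm ha1, Ne.symm hb1, hab, Ne.symm h1, Ne.symm h2,
      Ne.symm h3]
  haveI := Fintype.ofFinite G
  have hsub : ({1, a, b, a * b} : Finset G) ⊆ Finset.univ.filter (· ∈ A) := by
    intro y hy
    simp only [Finset.mem_insert, Finset.mem_singleton] at hy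
    rcases hy with rfl | rfl | rfl | rfl <;> simp [ha, hb, mul_mem ha hb, one_mem]
  have hcard : (Finset.univ.filter (· ∈ A) : Finset G).card = 4 := by
    rw [← K.card, Nat.card_eq_fintype_card, Fintype.card_subtype]
  have := Finset.eq_of_subset_of_card_le hsub (by omega)
  have hx' : x ∈ ({1, a, b, a * b} : Finset G) := by rw [this]; simpa using hx
  simpa using hx'

theorem exists_two {a : G} (ha : a ∈ A) :
    ∃ b ∈ A, b ≠ 1 ∧ b ≠ a := by
  by_contra hcon
  push Not at hcon
  have h2 : Nat.card A ≤ 2 := by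
    show Nat.card ↥(A : Set G) ≤ 2
    rw [Nat.card_coe_set_eq]
    refine (Set.ncard_le_ncard (t := {1, a}) (fun x hx => ?_)).trans
      ((Set.ncard_insert_le _ _).trans (by simp))
    by_cases h : x = 1
    · exact Or.inl h
    · exact Or.inr (hcon x hx h)
  have := K.card
  omega

theorem trans {a b : G} (ha : a ∈ A) (ha1 : a ≠ 1) (hb : b ∈ A) (hb1 : b ≠ 1) :
    ∃ g ∈ Subgroup.normalizer (A : Set G), g * a * g⁻¹ = b := by
  haveI : Fact (Nat.Prime 2) := ⟨Nat.prime_two⟩
  obtain ⟨g, hg⟩ := isConj_iff.mp (K.conj a b (K.pre.orderOf_invol ha ha1) (K.pre.orderOf_invol hb hb1))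
  obtain ⟨n, hn, hne⟩ := Transfer.exists_normalizer_conj_of_isMulCommutative
    (K.pre.two.toSylow K.pre.odd_index : Sylow 2 G) K.pre.isMulCommutative (x := a) ha g
    (by rw [hg]; exact hb)
  exact ⟨n, hn, hne.trans hg⟩

/-- An element of `N(A)` fixing an involution of `A` centralises `A`. -/
theorem mem_cent_of_fixed {g a : G} (hg : g ∈ Subgroup.normalizer (A : Set G)) (ha : a ∈ A)
    (ha1 : a ≠ 1) (hga : g * a * g⁻¹ = a) : g ∈ Subgroup.centralizer (A : Set G) := by
  obtain ⟨g', hg', hodd, -, hact⟩ := K.pre.exists_odd_equiv hg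
  intro b hb
  suffices h : g' * b * g'⁻¹ = b by
    rw [hact b hb] at h
    exact (mul_inv_eq_iff_eq_mul.mp h).symm
  by_cases hb1 : b = 1
  · simp [hb1]
  by_cases hba : b = a
  · rw [hba, hact a ha, hga]
  have hga' : g' * a * g'⁻¹ = a := (hact a ha).trans hga
  rcases K.four ha hb ha1 hb1 (Ne.symm hba) ((Subgroup.mem_normalizer_iff.mp hg' b).mp hb) with
    e | e | e | e
  · exact absurd (conj_eq_one_iff.mp e) hb1
  · rw [← hga'] at e
    exact absurd (mul_left_cancel (mul_right_cancel e)) hba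
  · exact e
  · exfalso
    have h2 : g' ^ 2 * b * (g' ^ 2)⁻¹ = b := by
      rw [show g' ^ 2 * b * (g' ^ 2)⁻¹ = g' * (g' * b * g'⁻¹) * g'⁻¹ by simp [pow_two, mul_assoc], e,
        show g' * (a * b) * g'⁻¹ = g' * a * g'⁻¹ * (g' * b * g'⁻¹) by group, hga', e, ← mul_assoc,
        K.pre.invol ha, one_mul]
    obtain ⟨m, hm⟩ := exists_pow_eq_self_of_coprime (x := g') (n := 2)
      (Nat.coprime_two_left.mpr hodd)
    have hc : Commute (g' ^ 2) b := mul_inv_eq_iff_eq_mul.mp h2
    have hc' : g' * b * g'⁻¹ = b := by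
      have hc2 : Commute g' b := hm ▸ hc.pow_left m
      rw [hc2.eq, mul_inv_cancel_right]
    rw [hc'] at e
    exact ha1 (mul_eq_right.mp e.symm)

end Klein

end CfsgLib.TwoQList
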