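import Mathlib
import Cfsg.Agent.Lib.TwoQList.KleinCore
import Cfsg.Agent.Lib.OneComposite.KleinFree
import Cfsg.Agent.Lib.ZJ.Complement
import Cfsg.Agent.S0118
import Cfsg.Agent.S0508

/-!
The Klein case: the group is `L₂(q)` for an odd `q`.
-/

set_option autoImplicit false
set_option linter.style.haveILetI false
set_option linter.unusedSectionVars false

namespace CfsgLib.TwoQList

open CfsgLib.OneComposite (coreIn coreIn_le coreIn_odd conj_mem_coreIn le_coreIn le_normalizer_coreIn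
  normal_sup_coreIn normalizer_le_normalizer_coreIn two_r_parts actV actV_of mul_pow_abel norm_eq
  inverts_of_free eq_one_of_conj_inv)

variable {G : Type*} [Group G] [Finite G] {r : ℕ} {A : Subgroup G}

theorem Hyp.not_four_dvd (h : Hyp G r) (x : G) : ¬ 4 ∣ orderOf x := by
  intro hd
  rcases h.even x ((show 2 ∣ 4 by norm_num).trans hd) with hp | hp <;> rw [hp] at hd
  · norm_num at hd
  · exact h.ne_two ((Nat.prime_dvd_prime_iff_eq Nat.prime_two h.prime).mp
      (Nat.dvd_of_mul_dvd_mul_left two_pos (show 2 * 2 ∣ 2 * r from hd))).symm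

theorem Hyp.sl2_free (h : Hyp G r) : ¬ ∃ (H K : Subgroup G) (_ : (K.subgroupOf H).Normal),
    Nonempty ((H ⧸ K.subgroupOf H) ≃* Matrix.SpecialLinearGroup (Fin 2) (ZMod r)) := by
  rintro ⟨H, K, hK, ⟨e⟩⟩
  haveI := Fact.mk h.prime
  haveI : Fact (Nat.Prime 2) := ⟨Nat.prime_two⟩
  let w : Matrix.SpecialLinearGroup (Fin 2) (ZMod r) := ⟨!![0, -1; 1, 0], by simp [Matrix.det_fin_two]⟩
  have hw4 : orderOf w = 2 ^ (1 + 1) := by
    have hw2 : (w * w).1 = !![-1, 0; 0, -1] := by
      rw [Matrix.SpecialLinearGroup.coe_mul]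
      simp [w, Matrix.mul_fin_two]
    refine orderOf_eq_prime_pow ?_ ?_
    · intro hc
      rw [pow_one, pow_two] at hc
      have := congrArg (fun M : Matrix.SpecialLinearGroup (Fin 2) (ZMod r) => M.1 0 0) hc
      simp only [hw2] at this
      simp at this
      have h2 : ((2 : ℕ) : ZMod r) = 0 := by
        push_cast
        linear_combination -this
      rw [ZMod.natCast_eq_zero_iff] at h2
      exact h.ne_two ((Nat.prime_dvd_prime_iff_eq h.prime Nat.prime_two).mp h2)
    · rw [show (2 : ℕ) ^ (1 + 1) = 2 * 2 from rfl, pow_mul, pow_two, pow_two]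
      apply Subtype.ext
      rw [Matrix.SpecialLinearGroup.coe_mul, hw2, Matrix.SpecialLinearGroup.coe_one]
      simp [Matrix.mul_fin_two, Matrix.one_fin_two]
  obtain ⟨x, hx⟩ := QuotientGroup.mk'_surjective (K.subgroupOf H) (e.symm w)
  refine h.not_four_dvd (x : G) ?_
  have h1 := orderOf_map_dvd (QuotientGroup.mk' (K.subgroupOf H)) x
  rw [hx, MulEquiv.orderOf_eq, hw4] at h1
  rw [Subgroup.orderOf_coe]
  exact h1

namespace Klein

variable (K : Klein G r A) [IsSimpleGroup G]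
include K

/-- `A` inverts or centralises each value. -/
theorem act_theta (hnc : ∃ a b : G, a * b ≠ b * a) {t u : G} (ht : t ∈ A) (ht1 : t ≠ 1)
    (hu : u ∈ A) (hu1 : u ≠ 1) (hut : u ≠ t) :
    (∀ x ∈ theta t, u * x * u⁻¹ = x⁻¹) ∧ ∀ x ∈ theta t, ∀ y ∈ theta t, x * y = y * x := by
  refine inverts_of_free (K.pre.normalizes_theta ht hu) (K.pre.invol hu) fun x hx hc => ?_
  refine K.cent_trivial hnc (fun a ha => ?_) (K.pre.odd_orderOf_mem (theta_odd t) hx)
  have hct : t * x = x * t := (Subgroup.mem_centralizer_singleton_iff.mp (theta_le t hx)).symm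
  rcases K.four ht hu ht1 hu1 (Ne.symm hut) ha with rfl | rfl | rfl | rfl
  · simp
  · exact hct
  · exact hc
  · rw [mul_assoc, hc, ← mul_assoc, hct, mul_assoc]

theorem theta_ne_bot {t : G} (ht : t ∈ A) (ht1 : t ≠ 1) : theta t ≠ ⊥ := by
  intro hbot
  obtain ⟨x, hx⟩ := K.pre.hyp.ex
  obtain ⟨h1, h2⟩ := two_r_parts K.pre.hyp.prime hx
  obtain ⟨g, hg⟩ := isConj_iff.mp (K.conj (x ^ r) t h1 (K.pre.orderOf_invol ht ht1))
  have hc : g * x ^ 2 * g⁻¹ ∈ Subgroup.centralizer ({t} : Set G) := by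
    refine Subgroup.mem_centralizer_singleton_iff.mpr ?_
    rw [← hg]
    have hcomm : x ^ 2 * x ^ r = x ^ r * x ^ 2 := (Commute.pow_pow_self x 2 r).eq
    calc g * x ^ 2 * g⁻¹ * (g * x ^ r * g⁻¹) = g * (x ^ 2 * x ^ r) * g⁻¹ := by group
      _ = g * (x ^ r * x ^ 2) * g⁻¹ := by rw [hcomm]
      _ = g * x ^ r * g⁻¹ * (g * x ^ 2 * g⁻¹) := by group
  have hA := K.cent_le ht ht1 hc
  rw [hbot, sup_bot_eq] at hA
  have h3 := Subgroup.orderOf_dvd_natCard A hA
  rw [Transfer.orderOf_conj, h2, K.card] at h3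
  exact K.pre.hyp.ne_two ((Nat.prime_dvd_prime_iff_eq K.pre.hyp.prime Nat.prime_two).mp
    (K.pre.hyp.prime.dvd_of_dvd_pow (show r ∣ 2 ^ 2 from h3)))

/-- The normaliser of an `A`-invariant `r`-subgroup. -/
theorem normalizer_structure (hnc : ∃ a b : G, a * b ≠ b * a) {Z : Subgroup G} (hZ : IsPGroup r Z)
    (hZ1 : Z ≠ ⊥) (hAZ : A ≤ Subgroup.normalizer (Z : Set G)) :
    IsPGroup r (coreIn (Subgroup.normalizer (Z : Set G))) ∧
      (∀ g ∈ Subgroup.normalizer (Z : Set G), Odd (orderOf g) →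
        g ∈ coreIn (Subgroup.normalizer (Z : Set G))) ∧
      Subgroup.normalizer (Z : Set G) = A ⊔ coreIn (Subgroup.normalizer (Z : Set G)) := by
  haveI : Fact (Nat.Prime 2) := ⟨Nat.prime_two⟩
  haveI := Fact.mk K.pre.hyp.prime
  set L := Subgroup.normalizer (Z : Set G) with hL
  refine ⟨K.pre.pgroup_of_invariant (coreIn_odd L) (hAZ.trans (le_normalizer_coreIn L)), ?_⟩
  have hfix : ∀ g ∈ Subgroup.normalizer (A : Set G), g ∈ L →
      g ∈ Subgroup.centralizer (A : Set G) := by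
    intro g hg hgL
    by_contra hgc
    have hmove : ∀ a ∈ A, a ≠ 1 → g * a * g⁻¹ ≠ a := fun a ha ha1 e =>
      hgc (K.mem_cent_of_fixed hg ha ha1 e)
    have htr : ∀ a ∈ A, a ≠ 1 → ∀ b ∈ A, b ≠ 1 →
        ∃ h ∈ Subgroup.normalizer (A : Set G), h ∈ L ∧ h * a * h⁻¹ = b := by
      intro a ha ha1 b hb hb1
      have hc := (Subgroup.mem_normalizer_iff.mp hg a).mp ha
      have hc1 : g * a * g⁻¹ ≠ 1 := fun e => ha1 (conj_eq_one_iff.mp e)
      have hd := (Subgroup.mem_normalizer_iff.mp hg _).mp hc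
      have hd1 : g * (g * a * g⁻¹) * g⁻¹ ≠ 1 := fun e => hc1 (conj_eq_one_iff.mp e)
      rcases K.four ha hc ha1 hc1 (hmove a ha ha1).symm hb with e | e | e | e
      · exact absurd e hb1
      · exact ⟨1, one_mem _, one_mem _, by simp [e]⟩
      · exact ⟨g, hg, hgL, e.symm⟩
      · refine ⟨g * g, mul_mem hg hg, mul_mem hgL hgL, ?_⟩
        rw [show g * g * a * (g * g)⁻¹ = g * (g * a * g⁻¹) * g⁻¹ by group]
        rcases K.four ha hc ha1 hc1 (hmove a ha ha1).symm hd with e' | e' | e' | e'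
        · exact absurd e' hd1
        · exfalso
          obtain ⟨g', hg', hodd, -, hact⟩ := K.pre.exists_odd_equiv hg
          have h2 : Commute (g' ^ 2) a := mul_inv_eq_iff_eq_mul.mp (by
            rw [show g' ^ 2 * a * (g' ^ 2)⁻¹ = g' * (g' * a * g'⁻¹) * g'⁻¹ by
              simp [pow_two, mul_assoc], hact a ha, hact _ hc]
            exact e')
          obtain ⟨m, hm⟩ := exists_pow_eq_self_of_coprime (x := g') (n := 2)
            (Nat.coprime_two_left.mpr hodd)
          have h1 : Commute g' a := hm ▸ h2.pow_left m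
          exact hmove a ha ha1 (by rw [← hact a ha, h1.eq, mul_inv_cancel_right])
        · exact absurd e' (hmove _ hc hc1)
        · rw [e', e]
    have hAC := K.pre.le_cent_of hZ hAZ htr
    refine hZ1 ((Subgroup.eq_bot_iff_forall _).mpr fun z hz =>
      K.cent_trivial hnc (fun a ha => (hAC ha z hz).symm) ?_)
    obtain ⟨k, hk⟩ := hZ ⟨z, hz⟩
    exact (K.pre.hyp.prime.odd_of_ne_two K.pre.hyp.ne_two).pow.of_dvd_nat
      (orderOf_dvd_of_pow_eq_one (congrArg Subtype.val hk))
  let P : Sylow 2 L := (K.pre.two.comap_subtype (K := L)).toSylow fun h => K.pre.odd_index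
    ((show 2 ∣ A.relIndex L from h).trans (Subgroup.relIndex_dvd_index_of_le hAZ))
  have hPN : Subgroup.normalizer ((P : Subgroup L) : Set L) ≤
      Subgroup.centralizer ((P : Subgroup L) : Set L) := by
    intro g hg y hy
    refine Subtype.ext ((hfix (g : G) (Subgroup.mem_normalizer_iff.mpr fun x => ⟨fun hx => ?_,
      fun hx => ?_⟩) g.2) (y : G) hy)
    · exact (Subgroup.mem_normalizer_iff.mp hg ⟨x, hAZ hx⟩).mp hx
    · have hx' : x ∈ L := by
        have := mul_mem (mul_mem (inv_mem g.2) (hAZ hx)) g.2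
        simpa [mul_assoc] using this
      exact (Subgroup.mem_normalizer_iff.mp hg ⟨x, hx'⟩).mpr hx
  have hcompl := Transfer.hasNormalPComplement_of_normalizer_le_centralizer P hPN
  have hres := Transfer.pPrimeCore_eq_pResidual hcompl
  refine ⟨fun g hg ho => ?_, ?_⟩
  · refine ⟨⟨g, hg⟩, ?_, rfl⟩
    rw [hres]
    refine Transfer.mem_pResidual_of_coprime ?_
    rw [Subgroup.orderOf_mk, Nat.coprime_two_right]
    exact ho
  · have hsup := congrArg (Subgroup.map L.subtype) (Transfer.sylow_sup_pResidual P)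
    rw [Subgroup.map_sup, ← hres, ← MonoidHom.range_eq_map, Subgroup.range_subtype] at hsup
    have hPA : (P : Subgroup L).map L.subtype = A := by
      show (A.subgroupOf L).map L.subtype = A
      rw [Subgroup.subgroupOf_map_subtype, inf_eq_left.mpr hAZ]
    rw [hPA] at hsup
    exact hsup.symm

/-- A value is an abelian Sylow `r`-subgroup. -/
theorem theta_sylow (hnc : ∃ a b : G, a * b ≠ b * a) {t : G} (ht : t ∈ A) (ht1 : t ≠ 1) :
    ∀ Q : Subgroup G, IsPGroup r Q → theta t ≤ Q → Q = theta t := by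
  classical
  haveI : Fact (Nat.Prime 2) := ⟨Nat.prime_two⟩
  haveI := Fact.mk K.pre.hyp.prime
  haveI := K.pre.isMulCommutative
  have hr : Odd r := K.pre.hyp.prime.odd_of_ne_two K.pre.hyp.ne_two
  obtain ⟨U, -, hU⟩ := Finite.exists_le_maximal (α := Subgroup G)
    (p := fun X => IsPGroup r X ∧ A ≤ Subgroup.normalizer (X : Set G) ∧ theta t ≤ X)
    (a := theta t) ⟨K.pre.theta_pgroup ht ht1, K.pre.normalizes_theta ht, le_rfl⟩
  obtain ⟨hUr, hAU, htU⟩ := hU.prop
  have hUodd : Odd (Nat.card U) := by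
    obtain ⟨n, hn⟩ := IsPGroup.iff_card.mp hUr
    rw [hn]; exact hr.pow
  have hU1 : U ≠ ⊥ := fun e => K.theta_ne_bot ht ht1 (le_bot_iff.mp (htU.trans e.le))
  -- `U` is a Sylow subgroup
  obtain ⟨hc1, hc2, -⟩ := K.normalizer_structure hnc hUr hU1 hAU
  have hUK : U ≤ coreIn (Subgroup.normalizer (U : Set G)) := fun x hx =>
    hc2 x (Subgroup.le_normalizer hx) (K.pre.odd_orderOf_mem hUodd hx)
  have hUeq : coreIn (Subgroup.normalizer (U : Set G)) = U :=
    le_antisymm (hU.2 ⟨hc1, hAU.trans (le_normalizer_coreIn _), htU.trans hUK⟩ hUK) hUK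
  have hmax : ∀ P : Subgroup G, IsPGroup r P → U ≤ P → P = U := by
    intro P hP hUP
    by_contra hne
    haveI := hP.isNilpotent
    have hlt : U.subgroupOf P < ⊤ := lt_top_iff_ne_top.mpr fun e =>
      hne (le_antisymm (Subgroup.subgroupOf_eq_top.mp e) hUP)
    obtain ⟨⟨y, hy⟩, hyN, hyU⟩ := SetLike.exists_of_lt
      (Group.normalizerCondition_of_isNilpotent _ hlt)
    refine hyU (Subgroup.mem_subgroupOf.mpr (hUeq.le (hc2 y ?_ ?_)))
    · refine Subgroup.mem_normalizer_iff.mpr fun z => ⟨fun hz => ?_, fun hz => ?_⟩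
      · exact (Subgroup.mem_normalizer_iff.mp hyN ⟨z, hUP hz⟩).mp (Subgroup.mem_subgroupOf.mpr hz)
      · have hz' : z ∈ P := by
          have := mul_mem (mul_mem (inv_mem hy) (hUP hz)) hy
          simpa [mul_assoc] using this
        exact (Subgroup.mem_normalizer_iff.mp hyN ⟨z, hz'⟩).mpr (Subgroup.mem_subgroupOf.mpr hz)
    · obtain ⟨k, hk⟩ := hP ⟨y, hy⟩
      exact hr.pow.of_dvd_nat (orderOf_dvd_of_pow_eq_one (congrArg Subtype.val hk))
  -- fusion
  let P : Sylow r G := ⟨U, hUr, fun hQ hUQ => hmax _ hQ hUQ⟩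
  set Z := Cfsg.centerThompsonOf r U with hZ
  have hAZ : A ≤ Subgroup.normalizer (Z : Set G) := by
    rw [hZ, ZJ.centerThompsonOf_eq]
    exact hAU.trans (ZJ.normalizer_le_normalizer_zJ r U)
  have hZU : Z ≤ U := by rw [hZ, ZJ.centerThompsonOf_eq]; exact ZJ.zJ_le r U
  have hUZ : U ≤ Subgroup.normalizer (Z : Set G) := by
    rw [hZ, ZJ.centerThompsonOf_eq]
    exact Subgroup.le_normalizer.trans (ZJ.normalizer_le_normalizer_zJ r U)
  have hZ1 : Z ≠ ⊥ := by
    obtain ⟨z, hz, hz1, -⟩ := ZJ.zJ_ne_bot (e := r) (Or.inr rfl) hUr hU1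
    rw [← ZJ.centerThompsonOf_eq, ← hZ] at hz
    exact fun e => hz1 (Subgroup.mem_bot.mp (e ▸ hz))
  obtain ⟨hz1', hz2', hz3'⟩ := K.normalizer_structure hnc (hUr.to_le hZU) hZ1 hAZ
  have hL : Subgroup.normalizer (Z : Set G) = A ⊔ U := by
    rw [hz3']
    congr 1
    exact hmax _ hz1' fun x hx => hz2' x (hUZ hx) (K.pre.odd_orderOf_mem hUodd hx)
  have hbot : ∀ u ∈ A, u ≠ 1 → u ≠ t → U ⊓ Subgroup.centralizer ({u} : Set G) ≤ ⊥ := by
    intro u hu hu1 hut z hz
    obtain ⟨hzU, hzC⟩ := Subgroup.mem_inf.mp hz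
    have hzθ : z ∈ theta u := K.pre.le_theta hu hu1 inf_le_right
      (Coprime.le_normalizer_inf_of_le hAU ((K.pre.le_cent hu).trans Subgroup.le_normalizer))
      (hUodd.of_dvd_nat (Subgroup.card_dvd_of_le inf_le_left)) hz
    obtain ⟨h, hh, hhu⟩ := K.trans hu hu1 ht ht1
    have hxt : h * z * h⁻¹ ∈ theta t := hhu ▸ K.pre.conj_theta_le hu hu1 hh hzθ
    obtain ⟨n, hn, hne⟩ := Cfsg.Agent.S0118.result K.pre.hyp.ne_two K.pre.hyp.sl2_free P {z}
      (Set.singleton_subset_iff.mpr hzU) h⁻¹ (by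
        rw [Set.image_singleton, inv_inv, Set.singleton_subset_iff]
        exact htU hxt)
    have hne' := hne z rfl
    rw [inv_inv] at hne'
    rw [show (P : Subgroup G) = U from rfl, ← hZ, hL, ← SetLike.mem_coe,
      Subgroup.coe_mul_of_left_le_normalizer_right A U hAU, Set.mem_mul] at hn
    obtain ⟨a, ha, v, hv, rfl⟩ := hn
    set x := h * z * h⁻¹ with hxdef
    obtain ⟨hinv, -⟩ := K.act_theta hnc hu hu1 ht ht1 (Ne.symm hut)
    -- the conjugate of `z` by `a` is `z` or its inverse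
    obtain ⟨z', hz', hz'C⟩ : ∃ z', (z' = z ∨ z' = z⁻¹) ∧ v⁻¹ * z' * v = x := by
      refine ⟨a⁻¹ * z * a, ?_, by rw [← hne']; group⟩
      have hai : a⁻¹ = a := inv_eq_of_mul_eq_one_right (K.pre.invol ha)
      have huz : u * z = z * u := (Subgroup.mem_centralizer_singleton_iff.mp hzC).symm
      have hti : t⁻¹ = t := inv_eq_of_mul_eq_one_right (K.pre.invol ht)
      have htz : t * z * t = z⁻¹ := by
        conv_lhs => arg 2; rw [← hti]
        exact hinv z hzθ
      rw [hai]
      rcases K.four hu ht hu1 ht1 hut ha with rfl | rfl | rfl | rfl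
      · exact Or.inl (by simp)
      · exact Or.inl (by rw [huz, mul_assoc, K.pre.invol ha, mul_one])
      · exact Or.inr htz
      · right
        have hcm := K.pre.comm hu ht
        calc u * t * z * (u * t) = u * t * z * (t * u) := by rw [← hcm]
          _ = u * (t * z * t) * u := by group
          _ = u * z⁻¹ * u⁻¹ := by rw [htz, inv_eq_of_mul_eq_one_right (K.pre.invol hu)]
          _ = (u * z * u⁻¹)⁻¹ := by group
          _ = z⁻¹ := by rw [huz, mul_inv_cancel_right]
    have hz'θ : z' ∈ theta u := by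
      rcases hz' with rfl | rfl
      exacts [hzθ, inv_mem hzθ]
    have hv' : t * v * t⁻¹ ∈ U := (Subgroup.mem_normalizer_iff.mp (hAU ht) v).mp hv
    have hconj : (v⁻¹ * (t * v * t⁻¹)) * x * (v⁻¹ * (t * v * t⁻¹))⁻¹ = x⁻¹ := by
      have h1 : t * z' * t⁻¹ = z'⁻¹ := hinv z' hz'θ
      have h2 : t * x * t⁻¹ = x := by
        rw [← (Subgroup.mem_centralizer_singleton_iff.mp (theta_le t hxt)), mul_inv_cancel_right]
      calc (v⁻¹ * (t * v * t⁻¹)) * x * (v⁻¹ * (t * v * t⁻¹))⁻¹
          = v⁻¹ * (t * v * t⁻¹ * (t * x * t⁻¹) * (t * v * t⁻¹)⁻¹) * v := by rw [h2]; group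
        _ = v⁻¹ * (t * (v * (v⁻¹ * z' * v) * v⁻¹) * t⁻¹) * v := by rw [hz'C]; group
        _ = v⁻¹ * (t * z' * t⁻¹) * v := by group
        _ = (v⁻¹ * z' * v)⁻¹ := by rw [h1]; group
        _ = x⁻¹ := by rw [hz'C]
    have hx1 := eq_one_of_conj_inv hUodd (htU hxt) (mul_mem (inv_mem hv) hv') hconj
    rw [hxdef, conj_eq_one_iff] at hx1
    exact Subgroup.mem_bot.mpr hx1
  have hUt : U ≤ theta t := by
    refine Coprime.le_of_centralizer_le K.pre.not_cyclic hAU (K.pre.coprime_card hUodd)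
      fun a ha ha1 => ?_
    by_cases hat : a = t
    · subst hat
      exact K.pre.le_theta ha ha1 inf_le_right
        (Coprime.le_normalizer_inf_of_le hAU ((K.pre.le_cent ha).trans Subgroup.le_normalizer))
        (hUodd.of_dvd_nat (Subgroup.card_dvd_of_le inf_le_left))
    · exact (hbot a ha ha1 hat).trans bot_le
  intro Q hQ htQ
  rw [le_antisymm htU hUt] at htQ ⊢
  exact hmax Q hQ htQ

theorem psl (hnc : ∃ a b : G, a * b ≠ b * a) :
    ∃ (F : Type) (_ : Field F) (_ : Fintype F), Odd (Fintype.card F) ∧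
      Nonempty (G ≃* Matrix.ProjectiveSpecialLinearGroup (Fin 2) F) := by
  classical
  haveI : Fact (Nat.Prime 2) := ⟨Nat.prime_two⟩
  obtain ⟨t, ht, ht1⟩ := K.pre.exists_ne
  obtain ⟨u, hu, hu1, hut⟩ := K.exists_two ht
  have hA4 : IsKleinFour A := by
    refine ⟨K.card, ?_⟩
    refine (Nat.dvd_prime Nat.prime_two).mp (Monoid.exponent_dvd_of_forall_pow_eq_one fun a => ?_)
      |>.resolve_left fun e => ?_
    · rw [sq]; exact Subtype.ext (K.pre.invol a.2)
    · exact ht1 (congrArg Subtype.val ((Monoid.exp_eq_one_iff.mp e).elim ⟨t, ht⟩ 1))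
  haveI : IsKleinFour (DihedralGroup 2) := DihedralGroup.instIsKleinFourOfNatNat
  obtain ⟨hinv, hcomm⟩ := K.act_theta hnc ht ht1 hu hu1 hut
  have hin : ∀ s ∈ A, s ∉ Subgroup.centralizer (theta t : Set G) →
      ∀ y ∈ theta t, s * y * s⁻¹ = y⁻¹ := by
    intro s hs hsC y hy
    by_cases hst : s = t
    · exfalso
      subst hst
      exact hsC fun z hz => Subgroup.mem_centralizer_singleton_iff.mp (theta_le _ hz)
    by_cases hs1 : s = 1
    · exact absurd (hs1 ▸ one_mem _) hsC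
    exact (K.act_theta hnc ht ht1 hs hs1 hst).1 y hy
  haveI : IsKleinFour ↥(K.pre.two.toSylow K.pre.odd_index : Subgroup G) := hA4
  refine Cfsg.Agent.S0508.result (K.pre.two.toSylow K.pre.odd_index) 2 le_rfl
    IsKleinFour.nonempty_mulEquiv t (K.pre.orderOf_invol ht ht1) ht
    (fun s hs => K.pre.comm hs ht) (theta t) rfl (fun hne => ?_) hin (fun Y hY hY1 => ?_)
  · have heq : (A : Subgroup G) ⊓ Subgroup.centralizer (theta t : Set G) = Subgroup.zpowers t := by
      refine le_antisymm (fun s hs => ?_) (Subgroup.zpowers_le.mpr ⟨ht, fun z hz =>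
        Subgroup.mem_centralizer_singleton_iff.mp (theta_le t hz)⟩)
      obtain ⟨hsA, hsC⟩ := Subgroup.mem_inf.mp hs
      by_cases hst : s = t
      · subst hst; exact Subgroup.mem_zpowers _
      by_cases hs1 : s = 1
      · rw [hs1]; exact one_mem _
      exfalso
      obtain ⟨⟨y, hy⟩, hy1⟩ := Subgroup.ne_bot_iff_exists_ne_one.mp hne
      have h1 := (K.act_theta hnc ht ht1 hsA hs1 hst).1 y hy
      rw [← hsC y hy, mul_inv_cancel_right] at h1
      refine hy1 (Subtype.ext (orderOf_eq_one_iff.mp (Nat.eq_one_of_dvd_coprimes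
        (Nat.coprime_two_left.mpr (theta_odd t)) (orderOf_dvd_of_pow_eq_one ?_)
        (Subgroup.orderOf_dvd_natCard _ hy))))
      rw [sq, mul_eq_one_iff_eq_inv]
      exact h1
    show IsCyclic ↥(A ⊓ Subgroup.centralizer (theta t : Set G)) ∧
      (A ⊓ Subgroup.centralizer (theta t : Set G)).relIndex A = 2
    rw [heq]
    refine ⟨inferInstance, ?_⟩
    have h2 := Subgroup.relIndex_mul_relIndex ⊥ (Subgroup.zpowers t) A bot_le
      (Subgroup.zpowers_le.mpr ht)
    rw [Subgroup.relIndex_bot_left, Subgroup.relIndex_bot_left, Nat.card_zpowers,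
      K.pre.orderOf_invol ht ht1, K.card] at h2
    omega
  · have hYr : IsPGroup r Y := (K.pre.theta_pgroup ht ht1).to_le hY
    have hAY : A ≤ Subgroup.normalizer (Y : Set G) := by
      intro a ha
      by_cases haC : a ∈ Subgroup.centralizer (theta t : Set G)
      · exact Subgroup.centralizer_le_normalizer _ (Subgroup.centralizer_le hY haC)
      · refine Subgroup.mem_normalizer_iff.mpr fun y => ⟨fun hy => ?_, fun hy => ?_⟩
        · rw [hin a ha haC y (hY hy)]
          exact inv_mem hy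
        · have h1 := hin a ha haC _ (hY hy)
          have hai : a⁻¹ = a := inv_eq_of_mul_eq_one_right (K.pre.invol ha)
          have h2 : y = (a * y * a⁻¹)⁻¹ := by
            rw [← h1, show a * (a * y * a⁻¹) * a⁻¹ = a * a * y * (a * a)⁻¹ by group,
              K.pre.invol ha, one_mul, inv_one, mul_one]
          rw [h2]
          exact inv_mem hy
    obtain ⟨h1, h2, h3⟩ := K.normalizer_structure hnc hYr hY1 hAY
    have htN : theta t ≤ Subgroup.normalizer (Y : Set G) := fun x hx =>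
      Subgroup.centralizer_le_normalizer _ fun y hy => hcomm y (hY hy) x hx
    have hle : theta t ≤ coreIn (Subgroup.normalizer (Y : Set G)) := fun x hx =>
      h2 x (htN hx) (K.pre.odd_orderOf_mem (theta_odd t) hx)
    rw [h3, K.theta_sylow hnc ht ht1 _ h1 hle]
    exact K.pre.sup_theta_le ht

end Klein

end CfsgLib.TwoQList
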