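import Mathlib
import Cfsg.Agent.Lib.TwoQList.KleinFree
import Cfsg.Agent.Lib.OneComposite.Main
import Cfsg.Agent.Lib.ThreeOrders.Socle

/-!
Simple groups in which every even order is `2` or `2r` are linear in odd characteristic.
-/

set_option autoImplicit false
set_option linter.style.haveILetI false
set_option linter.unusedSectionVars false

namespace CfsgLib.TwoQList

universe u

variable {G : Type u} [Group G] [Finite G]

/-- The group is `L₂(q)` for an odd `q`. -/
theorem psl_of_hyp [IsSimpleGroup G] (hnc : ∃ a b : G, a * b ≠ b * a) {r : ℕ} (h : Hyp G r) :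
    ∃ (F : Type) (_ : Field F) (_ : Fintype F), Odd (Fintype.card F) ∧
      Nonempty (G ≃* Matrix.ProjectiveSpecialLinearGroup (Fin 2) F) := by
  haveI : Fact (Nat.Prime 2) := ⟨Nat.prime_two⟩
  obtain ⟨P⟩ : Nonempty (Sylow 2 G) := inferInstance
  obtain ⟨n, hn⟩ := IsPGroup.iff_card.mp P.2
  rcases Nat.lt_or_ge n 2 with hlt | hge
  · exfalso
    obtain ⟨Q, K, hK, hc⟩ := Transfer.hasNormalPComplement_of_normalizer_le_centralizer P
      fun g hg x hx => by
        by_cases hx1 : x = 1
        · simp [hx1]
        have hgx := (Subgroup.mem_normalizer_iff.mp hg x).mp hx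
        have h2 : Nat.card (P : Subgroup G) ≤ 2 :=
          hn ▸ le_trans (Nat.pow_le_pow_right two_pos (by omega : n ≤ 1)) (by norm_num)
        have heq : g * x * g⁻¹ = x := by
          by_contra hne
          have h3 : ({1, x, g * x * g⁻¹} : Set G) ⊆ ((P : Subgroup G) : Set G) := by
            rintro y (rfl | rfl | rfl)
            exacts [one_mem _, hx, hgx]
          have h4 := Set.ncard_le_ncard h3
          rw [← Nat.card_coe_set_eq ((P : Subgroup G) : Set G)] at h4
          have h5 : ({1, x, g * x * g⁻¹} : Set G).ncard = 3 := Set.ncard_eq_three.mpr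
            ⟨1, x, g * x * g⁻¹, Ne.symm hx1, fun e => hx1 (conj_eq_one_iff.mp e.symm), Ne.symm hne,
              rfl⟩
          have : Nat.card ((P : Subgroup G) : Set G) = Nat.card (P : Subgroup G) := rfl
          omega
        exact (mul_inv_eq_iff_eq_mul.mp heq).symm
    exact OneComposite.no_complement hnc Q hK hc
  have hpre : Pre G r (P : Subgroup G) := ⟨h, P.2, P.not_dvd_index,
    hn ▸ le_trans (by norm_num) (Nat.pow_le_pow_right two_pos hge)⟩
  rcases eq_or_lt_of_le hge with heq | hgt
  · have hcard : Nat.card (P : Subgroup G) = 4 := by rw [hn, ← heq]; norm_num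
    have hkl : IsKleinFour (P : Subgroup G) := by
      refine ⟨hcard, ?_⟩
      refine (Nat.dvd_prime Nat.prime_two).mp
        (Monoid.exponent_dvd_of_forall_pow_eq_one fun a => ?_) |>.resolve_left fun e => ?_
      · rw [sq]; exact Subtype.ext (hpre.invol a.2)
      · haveI := Monoid.exp_eq_one_iff.mp e
        have := Nat.card_of_subsingleton (1 : (P : Subgroup G))
        omega
    rcases Invol.klein_complement_or_one_class P hkl with ⟨N, hN, hc⟩ | hone
    · exact (OneComposite.no_complement hnc P hN hc).elim
    · exact Klein.psl ⟨hpre, hcard, hone⟩ hnc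
  · exact ((hpre.setup (hn ▸ le_trans (by norm_num)
      (Nat.pow_le_pow_right two_pos (show 3 ≤ n by omega)))).contradiction hnc).elim

/-- The classification used in the mixed case. -/
theorem twoQList : ThreeOrders.TwoQList.{u} := by
  intro H _ _ _ hna q hq
  refine psl_of_hyp (r := q) ?_ ⟨hq.prime, hq.ne_two, hq.two, hq.qq, hq.mix⟩
  by_contra hc
  push Not at hc
  exact hna ⟨⟨hc⟩⟩

end CfsgLib.TwoQList
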